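import Groth.Agent.Lib.VarDim.Fibre
import Groth.Agent.Lib.PtSet.Constr
import Mathlib.AlgebraicGeometry.Morphisms.FinitePresentation

/-!
Irreducible components and fibres for morphisms of schemes of finite type over a field.

* `exists_maximal_specializes`, `exists_dim_eq`: maximal points, attained dimension;
* `exists_closed_over`: closed points over closed points in a dominated closed set;
* `component_data`: for closed fibres irreducible of constant dimension `d`, each component is a
  union of such fibres and has dimension `d` more than its image.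
-/

universe u

namespace Groth.Agent.VarDim

open CategoryTheory AlgebraicGeometry Order Topology

variable {k : Type u} [Field k] {X Y : Scheme.{u}}

theorem noetherianSpace_of_finiteType (p : X ⟶ Spec (CommRingCat.of k)) [LocallyOfFiniteType p]
    [QuasiCompact p] : TopologicalSpace.NoetherianSpace X := by
  haveI : CompactSpace X := QuasiCompact.compactSpace_of_compactSpace p
  haveI : IsLocallyNoetherian X := LocallyOfFiniteType.isLocallyNoetherian p
  haveI : IsNoetherian X := {}
  infer_instance

theorem locallyOfFinitePresentation_of_locallyNoetherian [IsLocallyNoetherian Y] (f : X ⟶ Y)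
    [LocallyOfFiniteType f] : LocallyOfFinitePresentation f where
  finitePresentation_appLE {U} hU {V} hV e :=
    haveI := IsLocallyNoetherian.component_noetherian ⟨U, hU⟩
    RingHom.FinitePresentation.of_finiteType.mp (f.finiteType_appLE hU hV e)

/-- In a scheme of finite type over a field every point specializes from a maximal one. -/
theorem exists_maximal_specializes (p : X ⟶ Spec (CommRingCat.of k)) [LocallyOfFiniteType p]
    (x : X) : ∃ η : X, η ⤳ x ∧ ∀ y : X, y ⤳ η → y = η := by
  let Z := irreducibleComponent x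
  have hZ : IsIrreducible Z := isIrreducible_irreducibleComponent
  refine ⟨hZ.genericPoint, ?_, fun y hy => ?_⟩
  · rw [specializes_iff_mem_closure, hZ.closure_genericPoint isClosed_irreducibleComponent]
    exact mem_irreducibleComponent
  · have hmax := irreducibleComponent_mem_irreducibleComponents x
    have hsub : Z ≤ closure {y} := by
      rw [← hZ.closure_genericPoint isClosed_irreducibleComponent]
      exact closure_minimal (Set.singleton_subset_iff.mpr (specializes_iff_mem_closure.mp hy)) isClosed_closure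
    have hle := hmax.2 isIrreducible_singleton.closure hsub
    refine (Specializes.antisymm ?_ hy).eq.symm
    rw [specializes_iff_mem_closure, hZ.closure_genericPoint isClosed_irreducibleComponent]
    exact hle (subset_closure rfl)

/-- The dimension is attained at a point, with all other values below it. -/
theorem exists_dim_eq (p : X ⟶ Spec (CommRingCat.of k)) [LocallyOfFiniteType p] [QuasiCompact p]
    [Nonempty X] :
    ∃ x : X, topologicalKrullDim X = (sdim p x : WithBot ℕ∞) ∧ ∀ y, sdim p y ≤ sdim p x := by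
  haveI := noetherianSpace_of_finiteType p
  obtain ⟨G, hG⟩ := exists_finite_generic (X := X) isClosed_univ
  obtain ⟨g₀, hg₀, -⟩ := (hG (Classical.arbitrary X)).mp trivial
  obtain ⟨g, -, hg⟩ := G.exists_max_image (sdim p) ⟨g₀, hg₀⟩
  have hall : ∀ y, sdim p y ≤ sdim p g := fun y => by
    obtain ⟨g', hg', hy⟩ := (hG y).mp trivial
    by_cases e : g' = y
    · exact e ▸ hg g' hg'
    · exact (sdim_lt_of_specializes p hy e).le.trans (hg g' hg')
  refine ⟨g, ?_, hall⟩
  rw [dim_eq_iSup_sdim p]
  exact le_antisymm (iSup_le fun y => by exact_mod_cast hall y)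
    (le_iSup (fun y => ((sdim p y : ℕ) : WithBot ℕ∞)) g)

variable (q : Y ⟶ Spec (CommRingCat.of k)) (f : X ⟶ Y) [LocallyOfFiniteType q] [LocallyOfFiniteType f]

include q in
/-- Closed points of the image of an irreducible closed set, over a dense open of its closure. -/
theorem exists_closed_over [QuasiCompact q] [QuasiCompact f] (g : X) :
    ∃ V : Y.Opens, f g ∈ V ∧ ∀ y ∈ V, f g ⤳ y → ∃ x, g ⤳ x ∧ f x = y := by
  haveI : IsLocallyNoetherian Y := LocallyOfFiniteType.isLocallyNoetherian q
  haveI : CompactSpace Y := QuasiCompact.compactSpace_of_compactSpace q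
  haveI := locallyOfFinitePresentation_of_locallyNoetherian f
  haveI := noetherianSpace_of_finiteType (f ≫ q)
  have hC : IsConstructible (f '' closure {g}) :=
    f.isConstructible_image (Groth.Agent.PtSet.isConstructible_of_isClosed_noetherian isClosed_closure)
  have hd : closure ({f g} : Set Y) ⊆ closure (f '' closure {g} ∩ closure {f g}) :=
    closure_mono (Set.singleton_subset_iff.mpr ⟨⟨g, subset_closure rfl, rfl⟩, subset_closure rfl⟩)
  obtain ⟨U, hU, ⟨a, ha⟩, hsub⟩ :=
    Groth.Agent.PtSet.exists_isOpen_of_isConstructible hC isIrreducible_singleton.closure hd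
  refine ⟨⟨U, hU⟩, (specializes_iff_mem_closure.mpr ha.2).mem_open hU ha.1, fun y hy hgy => ?_⟩
  obtain ⟨x, hx, hxy⟩ := hsub ⟨hy, specializes_iff_mem_closure.mp hgy⟩
  exact ⟨x, specializes_iff_mem_closure.mpr hx, hxy⟩

include q f in
/-- A nonempty open part of an irreducible closed set contains a closed point. -/
theorem exists_closedPoint {g : X} {U : Set X} (hU : IsOpen U) (hg : g ∈ U) :
    ∃ x ∈ U, g ⤳ x ∧ IsClosed ({x} : Set X) := by
  haveI : JacobsonSpace X := LocallyOfFiniteType.jacobsonSpace (f ≫ q)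
  obtain ⟨x, ⟨hxU, hxg⟩, hx⟩ := nonempty_inter_closedPoints (Z := U ∩ closure {g})
    ⟨g, hg, subset_closure rfl⟩ (hU.isLocallyClosed.inter isClosed_closure.isLocallyClosed)
  exact ⟨x, hxU, specializes_iff_mem_closure.mpr hxg, hx⟩

/-- A nonempty fibre contains a point of minimal dimension: a closed point of the fibre. -/
theorem exists_closed_in_fibre (y : Y) (h : (f ⁻¹' {y}).Nonempty) :
    ∃ x, f x = y ∧ sdim (f ≫ q) x = sdim q y := by
  obtain ⟨x₀, hx₀⟩ := h
  obtain ⟨z, -, hz⟩ := nonempty_inter_closedPoints (Z := (Set.univ : Set (f.fiber y)))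
    ⟨(f.fiberHomeo y).symm ⟨x₀, hx₀⟩, trivial⟩ isOpen_univ.isLocallyClosed
  refine ⟨f.fiberι y z, ?_, ?_⟩
  · have hm : f.fiberι y z ∈ Set.range (f.fiberι y) := ⟨z, rfl⟩
    rwa [f.range_fiberι] at hm
  · have h0 : sdim (f.fiberToSpecResidueField y) z = 0 :=
      (@sdim_eq_zero_iff_isClosed (Y.residueField y) _ _ (f.fiberToSpecResidueField y)
        (MorphismProperty.pullback_snd _ _ inferInstance) z).mpr hz
    have h1 := sdim_fiber q f y z
    omega

variable (d : ℕ) (hirr : ∀ y : Y, IsClosed ({y} : Set Y) → IsIrreducible (f ⁻¹' {y}))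
  (hdim : ∀ y : Y, IsClosed ({y} : Set Y) → topologicalKrullDim (f ⁻¹' {y} : Set X) = (d : WithBot ℕ∞))

include hirr hdim in
/-- The generic point of a closed fibre. -/
theorem fibre_generic (y : Y) (hy : IsClosed ({y} : Set Y)) :
    ∃ ξ : X, f ξ = y ∧ (∀ x, f x = y → ξ ⤳ x) ∧ sdim (f ≫ q) ξ = d := by
  have hcl : IsClosed (f ⁻¹' ({y} : Set Y)) := hy.preimage f.continuous
  refine ⟨(hirr y hy).genericPoint, ?_, fun x hx => ?_, ?_⟩
  · exact ((hirr y hy).closure_genericPoint hcl).subset (subset_closure rfl)
  · rw [specializes_iff_mem_closure, (hirr y hy).closure_genericPoint hcl]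
    exact hx
  · have := hdim y hy
    rw [dim_irreducible_isClosed (f ≫ q) hcl (hirr y hy)] at this
    exact_mod_cast this

include hirr hdim in
/-- For each maximal point `g` of `X`: the closed fibres meeting its closure lie in it, and
`sdim g = d + sdim (f g)`. -/
theorem component_data [QuasiCompact q] [QuasiCompact f] (g : X) (hg : ∀ x, x ⤳ g → x = g) :
    sdim (f ≫ q) g = d + sdim q (f g) ∧
      ∀ (y : Y), IsClosed ({y} : Set Y) → ∀ x, f x = y → g ⤳ x → ∀ x', f x' = y → g ⤳ x' := by
  haveI := noetherianSpace_of_finiteType (f ≫ q)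
  classical
  obtain ⟨G, hG⟩ := exists_finite_generic (X := X) isClosed_univ
  have hclosed : ∀ {y : Y} (_ : IsClosed ({y} : Set Y)) {x : X}, f x = y → g ⤳ x →
      ∃ x', g ⤳ x' ∧ f x' = y ∧ sdim (f ≫ q) g ≤ sdim (f ≫ q) x' + sdim q (f g) := by
    intro y hy x hxy hgx
    obtain ⟨x', h1, -, h3, h4⟩ := exists_fibre_lower q f hgx
    refine ⟨x', h1, h3.trans hxy, ?_⟩
    rw [hxy, (sdim_eq_zero_iff_isClosed q y).mpr hy] at h4
    simpa using h4
  have hub : ∀ {y : Y} (_ : IsClosed ({y} : Set Y)) {x : X}, f x = y → sdim (f ≫ q) x ≤ d := by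
    intro y hy x hxy
    have := (dim_preimage_singleton_le_iff q f y d).mp (hdim y hy).le x hxy
    rwa [(sdim_eq_zero_iff_isClosed q y).mpr hy, add_zero] at this
  have hle : sdim (f ≫ q) g ≤ d + sdim q (f g) := by
    obtain ⟨x, -, hgx, hx⟩ := exists_closedPoint q f isOpen_univ (Set.mem_univ g)
    have hy := isClosed_singleton_image q f hx
    obtain ⟨x', -, hx'y, h⟩ := hclosed hy rfl hgx
    have := hub hy hx'y
    omega
  have hge : d + sdim q (f g) ≤ sdim (f ≫ q) g := by
    obtain ⟨V, hgV, hV⟩ := exists_opens_fibre_upper q f g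
    let W : Set X := f ⁻¹' (V : Set Y) ∩ ⋂ g' ∈ G.erase g, (closure {g'})ᶜ
    have hW : IsOpen W := (V.2.preimage f.continuous).inter
      (isOpen_biInter_finset fun g' _ => isClosed_closure.isOpen_compl)
    have hgW : g ∈ W := ⟨hgV, Set.mem_iInter₂.mpr fun g' hg' hmem =>
      (Finset.mem_erase.mp hg').1 (hg g' (specializes_iff_mem_closure.mpr hmem))⟩
    obtain ⟨x, hxW, hgx, hx⟩ := exists_closedPoint q f hW hgW
    have hy := isClosed_singleton_image q f hx
    obtain ⟨ξ, hξy, hξ, hξd⟩ := fibre_generic q f d hirr hdim (f x) hy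
    obtain ⟨g', hg', hg'ξ⟩ := (hG ξ).mp trivial
    have hgg : g' = g := by
      by_contra hne
      exact Set.mem_iInter₂.mp hxW.2 g' (Finset.mem_erase.mpr ⟨hne, hg'⟩)
        (specializes_iff_mem_closure.mp (hg'ξ.trans (hξ x rfl)))
    have := hV ξ (hξy ▸ hxW.1) (hgg ▸ hg'ξ)
    rw [hξy, hξd, (sdim_eq_zero_iff_isClosed q (f x)).mpr hy] at this
    omega
  refine ⟨le_antisymm hle hge, fun y hy x hxy hgx x₂ hx₂ => ?_⟩
  obtain ⟨x', hgx', hx'y, h⟩ := hclosed hy hxy hgx
  obtain ⟨ξ, -, hξ, hξd⟩ := fibre_generic q f d hirr hdim y hy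
  have hξx' : ξ = x' := by
    by_contra hne
    have := sdim_lt_of_specializes (f ≫ q) (hξ x' hx'y) hne
    omega
  exact hgx'.trans (hξx' ▸ hξ x₂ hx₂)

include q hirr hdim in
/-- There is exactly one maximal point dominating an irreducible base. -/
theorem exists_unique_dominant [QuasiCompact q] [QuasiCompact f] [IrreducibleSpace Y] :
    ∃ g : X, f g = genericPoint Y ∧ (∀ x, x ⤳ g → x = g) ∧
      ∀ g' : X, f g' = genericPoint Y → (∀ x, x ⤳ g' → x = g') → g' = g := by
  classical
  haveI := noetherianSpace_of_finiteType (f ≫ q)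
  haveI : JacobsonSpace Y := LocallyOfFiniteType.jacobsonSpace q
  obtain ⟨G, hG⟩ := exists_finite_generic (X := X) isClosed_univ
  have hcl : IsClosed (⋃ g ∈ G, closure ({f g} : Set Y)) := isClosed_biUnion_finset fun _ _ => isClosed_closure
  have hsub : closedPoints Y ⊆ ⋃ g ∈ G, closure ({f g} : Set Y) := fun y hy => by
    obtain ⟨x, hx⟩ := (hirr y hy).nonempty
    obtain ⟨g, hg, hgx⟩ := (hG x).mp trivial
    have h := hgx.map f.continuous
    rw [show f x = y from hx] at h
    exact Set.mem_biUnion hg (specializes_iff_mem_closure.mp h)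
  obtain ⟨g₀, -, hg₀⟩ := Set.mem_iUnion₂.mp
    ((closure_minimal hsub hcl) ((closure_closedPoints (X := Y)).symm ▸ Set.mem_univ (genericPoint Y)))
  obtain ⟨g, hg, hgmax⟩ := exists_maximal_specializes (f ≫ q) g₀
  have hgη : f g = genericPoint Y :=
    (((hg.map f.continuous).trans (specializes_iff_mem_closure.mpr hg₀)).antisymm (genericPoint_specializes _)).eq
  refine ⟨g, hgη, hgmax, fun g' hg'η hg'max => ?_⟩
  by_contra hne
  obtain ⟨V, hV, hVsurj⟩ := exists_closed_over q f g'
  have hW : IsOpen (f ⁻¹' (V : Set Y) ∩ (closure {g'})ᶜ) :=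
    (V.2.preimage f.continuous).inter isClosed_closure.isOpen_compl
  have hgW : g ∈ f ⁻¹' (V : Set Y) ∩ (closure {g'})ᶜ :=
    ⟨show f g ∈ V by rw [hgη, ← hg'η]; exact hV,
      fun hmem => hne (hgmax g' (specializes_iff_mem_closure.mpr hmem))⟩
  obtain ⟨x, hx, -, hxc⟩ := exists_closedPoint q f hW hgW
  have hy := isClosed_singleton_image q f hxc
  obtain ⟨x', hx', hx'y⟩ := hVsurj (f x) hx.1 (hg'η ▸ genericPoint_specializes _)
  exact hx.2 (specializes_iff_mem_closure.mp
    ((component_data q f d hirr hdim g' hg'max).2 (f x) hy x' hx'y hx' x rfl))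

theorem maximal_iff_mem_irreducibleComponents (g : X) :
    (∀ x, x ⤳ g → x = g) ↔ closure {g} ∈ irreducibleComponents X := by
  constructor
  · intro h
    refine ⟨isIrreducible_singleton.closure, fun Z hZ hle => ?_⟩
    intro a ha
    have h1 : hZ.genericPoint ⤳ g := by
      rw [specializes_iff_mem_closure, hZ.genericPoint_closure_eq]
      exact subset_closure (hle (subset_closure rfl))
    have h2 := h _ h1
    rw [← h2, hZ.genericPoint_closure_eq]
    exact subset_closure ha
  · intro h x hx
    have h1 := h.2 isIrreducible_singleton.closure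
      (closure_minimal (Set.singleton_subset_iff.mpr (specializes_iff_mem_closure.mp hx)) isClosed_closure)
    exact (hx.antisymm (specializes_iff_mem_closure.mpr (h1 (subset_closure rfl)))).eq

theorem exists_generic_of_mem_irreducibleComponents {Z : Set X} (hZ : Z ∈ irreducibleComponents X) :
    ∃ g : X, closure {g} = Z ∧ ∀ x, x ⤳ g → x = g := by
  have hc := isClosed_of_mem_irreducibleComponents Z hZ
  refine ⟨hZ.1.genericPoint, hZ.1.closure_genericPoint hc, ?_⟩
  rw [maximal_iff_mem_irreducibleComponents, hZ.1.closure_genericPoint hc]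
  exact hZ

end Groth.Agent.VarDim
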