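import Mathlib.Topology.KrullDimension
import Mathlib.AlgebraicGeometry.Properties

/-!
Topological Krull dimension through points and heights in the specialization order.
-/

universe u

namespace Groth.Agent.VarDim

open Order Topology

section

variable {X : Type*} [TopologicalSpace X] [QuasiSober X] [T0Space X]

theorem topologicalKrullDim_eq_iSup_height [Preorder X] (h : ∀ a b : X, a ≤ b ↔ b ⤳ a) :
    topologicalKrullDim X = ⨆ x : X, ((height x : ℕ∞) : WithBot ℕ∞) := by
  let e : TopologicalSpace.IrreducibleCloseds X ≃o X :=
    { toEquiv := (@irreducibleSetEquivPoints X _ _ _).toEquiv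
      map_rel_iff' := fun {s t} => (h _ _).trans (by
        letI := specializationOrder X
        exact irreducibleSetEquivPoints.map_rel_iff' (a := s) (b := t)) }
  rw [topologicalKrullDim, krullDim_eq_of_orderIso e, krullDim_eq_iSup_height]

end

section Scheme

open AlgebraicGeometry CategoryTheory

variable {X : Scheme.{u}}

theorem scheme_dim_eq_iSup_height :
    topologicalKrullDim X = ⨆ x : X, ((height x : ℕ∞) : WithBot ℕ∞) := by
  rw [topologicalKrullDim_eq_iSup_height (fun _ _ => Iff.rfl)]

theorem le_iff_specializes' {x y : X} : x ≤ y ↔ y ⤳ x := Iff.rfl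

theorem lt_of_specializes_ne {x y : X} (h : y ⤳ x) (hne : x ≠ y) : x < y :=
  lt_of_le_not_ge h fun h' => hne (Specializes.antisymm (show x ⤳ y from h') h).eq

theorem lt_iff_specializes_and_ne {x y : X} : x < y ↔ y ⤳ x ∧ x ≠ y :=
  ⟨fun h => ⟨h.le, fun e => (e ▸ h).false⟩, fun h => lt_of_specializes_ne h.1 h.2⟩

/-- The dimension of a closed subset is the supremum of the heights of its points. -/
theorem topologicalKrullDim_isClosed_eq_iSup_height {Z : Set X} (hZ : IsClosed Z) :
    topologicalKrullDim Z = ⨆ z : Z, ((height (z : X) : ℕ∞) : WithBot ℕ∞) := by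
  haveI : QuasiSober Z := hZ.isClosedEmbedding_subtypeVal.quasiSober
  rw [topologicalKrullDim_eq_iSup_height fun a b => (subtype_specializes_iff b a).symm]
  refine iSup_congr fun z => ?_
  congr 1
  refine le_antisymm ?_ (height_le fun l hl => ?_)
  · refine height_le_height_apply_of_strictMono Subtype.val (fun a b hab => ?_) z
    exact hab
  · have hmem : ∀ i, l i ∈ Z := fun i => by
      have hle : l i ≤ (z : X) := by rw [← hl]; exact l.monotone (Fin.le_last i)
      exact Specializes.mem_closed (show (z : X) ⤳ l i from hle) hZ z.2
    let l' : LTSeries Z := LTSeries.mk l.length (fun i => ⟨l i, hmem i⟩) fun i j hij => by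
      exact l.strictMono hij
    have hlast : l'.last = z := Subtype.ext hl
    exact length_le_height (p := l') hlast.le

theorem topologicalKrullDim_closure_singleton (x : X) :
    topologicalKrullDim (closure ({x} : Set X)) = (height x : WithBot ℕ∞) := by
  rw [topologicalKrullDim_isClosed_eq_iSup_height isClosed_closure]
  refine le_antisymm (iSup_le fun z => WithBot.coe_le_coe.mpr (height_mono ?_)) ?_
  · exact specializes_iff_mem_closure.mpr z.2
  · exact le_iSup (fun z : closure ({x} : Set X) => ((height (z : X) : ℕ∞) : WithBot ℕ∞))
      ⟨x, subset_closure rfl⟩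

theorem topologicalKrullDim_eq_height_genericPoint [IrreducibleSpace X] :
    topologicalKrullDim X = (height (genericPoint X) : WithBot ℕ∞) := by
  rw [scheme_dim_eq_iSup_height]
  exact le_antisymm (iSup_le fun z => WithBot.coe_le_coe.mpr (height_mono (genericPoint_specializes z)))
    (le_iSup (fun z : X => ((height z : ℕ∞) : WithBot ℕ∞)) _)

theorem topologicalKrullDim_irreducible_isClosed {Z : Set X} (hZ : IsClosed Z) (hi : IsIrreducible Z) :
    topologicalKrullDim Z = (height hi.genericPoint : WithBot ℕ∞) := by
  rw [← topologicalKrullDim_closure_singleton, hi.closure_genericPoint hZ]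

end Scheme

end Groth.Agent.VarDim
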