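import Groth.Agent.Lib.VarDim.Alg
import Groth.Agent.Lib.VarDim.Top
import Mathlib.AlgebraicGeometry.Morphisms.FiniteType
import Mathlib.AlgebraicGeometry.ResidueField
import Mathlib.AlgebraicGeometry.Fiber

/-!
Dimension theory of schemes locally of finite type over a field.

`sdim f x` is the transcendence degree over `k` of the residue field at `x`.

* `height_eq_sdim`: the height of `x` in the specialization order is `sdim f x`;
* `sdim_comp_eq`: for `g : Z ⟶ X` over `k`, `sdim` is additive in the residue extension.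
-/

universe u

namespace Groth.Agent.VarDim

open CategoryTheory AlgebraicGeometry Order Topology

variable {k : Type u} [Field k] {X : Scheme.{u}} (f : X ⟶ Spec (CommRingCat.of k))

/-- The structure map from the base field to the residue field at a point. -/
noncomputable def baseToRes (x : X) : k →+* X.residueField x :=
  ((Scheme.ΓSpecIso (CommRingCat.of k)).inv ≫ f.appTop ≫ X.Γevaluation x).hom

/-- The residue field as an algebra over the base field. -/
@[reducible] noncomputable def resAlg (x : X) : Algebra k (X.residueField x) := (baseToRes f x).toAlgebra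

/-- Transcendence degree of the residue field at `x` over the base field. -/
noncomputable def sdim (x : X) : ℕ :=
  letI := resAlg f x
  tdeg k (X.residueField x)

theorem baseToRes_comp {Z : Scheme.{u}} (g : Z ⟶ X) (z : Z) :
    baseToRes (g ≫ f) z = (g.residueFieldMap z).hom.comp (baseToRes f (g z)) := by
  rw [baseToRes, baseToRes, ← CommRingCat.hom_comp, Category.assoc, Category.assoc,
    Scheme.Γevaluation_naturality, Scheme.Hom.comp_appTop, Category.assoc]

section Chart

variable {U : X.Opens} (hU : IsAffineOpen U)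

/-- The structure map from the base field to the sections over an open. -/
noncomputable def baseToSections (U : X.Opens) : k →+* Γ(X, U) :=
  ((Scheme.ΓSpecIso (CommRingCat.of k)).inv ≫ f.appTop ≫ X.presheaf.map (homOfLE le_top).op).hom

theorem evaluation_comp_baseToSections (x : X) (hx : x ∈ U) :
    (X.evaluation U x hx).hom.comp (baseToSections f U) = baseToRes f x := by
  rw [baseToRes, baseToSections, ← CommRingCat.hom_comp, Category.assoc, Category.assoc]
  congr 3
  rw [Scheme.evaluation, Scheme.Γevaluation, Scheme.evaluation, TopCat.Presheaf.germ_res_assoc]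

theorem finiteType_baseToSections [LocallyOfFiniteType f] (hU : IsAffineOpen U) :
    (baseToSections f U).FiniteType := by
  have h := f.finiteType_appLE (isAffineOpen_top _) hU (by simp)
  rw [baseToSections, CommRingCat.hom_comp]
  refine RingHom.FiniteType.comp ?_ (RingHom.FiniteType.of_surjective _
    (Scheme.ΓSpecIso (CommRingCat.of k)).symm.commRingCatIsoToRingEquiv.surjective)
  exact h

include hU in
theorem exists_evaluation_eq_div (x : X) (hx : x ∈ U) (z : X.residueField x) :
    ∃ a b, z = X.evaluation U x hx a / X.evaluation U x hx b := by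
  letI := TopCat.Presheaf.algebra_section_stalk X.presheaf (⟨x, hx⟩ : U)
  haveI := hU.isLocalization_stalk ⟨x, hx⟩
  obtain ⟨w, rfl⟩ := Scheme.residue_surjective X x z
  obtain ⟨⟨a, s⟩, hw⟩ := IsLocalization.surj (hU.primeIdealOf ⟨x, hx⟩).asIdeal.primeCompl w
  refine ⟨a, s, ?_⟩
  have hs : IsUnit (X.evaluation U x hx (s : Γ(X, U))) :=
    (IsLocalization.map_units (X.presheaf.stalk x) s).map (X.residue x).hom
  rw [eq_div_iff hs.ne_zero]
  exact ((map_mul (X.residue x).hom w _).symm.trans (congrArg (X.residue x).hom hw))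

include hU in
theorem ker_evaluation (x : X) (hx : x ∈ U) :
    RingHom.ker (X.evaluation U x hx).hom = (hU.primeIdealOf ⟨x, hx⟩).asIdeal := by
  letI := TopCat.Presheaf.algebra_section_stalk X.presheaf (⟨x, hx⟩ : U)
  haveI := hU.isLocalization_stalk ⟨x, hx⟩
  rw [← IsLocalization.AtPrime.comap_maximalIdeal (X.presheaf.stalk x) (hU.primeIdealOf ⟨x, hx⟩).asIdeal]
  ext a
  rw [RingHom.mem_ker, Ideal.mem_comap, ← IsLocalRing.residue_eq_zero_iff]
  rfl

theorem sdim_eq_coheight [LocallyOfFiniteType f] (hU : IsAffineOpen U) (x : X) (hx : x ∈ U) :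
    coheight (hU.primeIdealOf ⟨x, hx⟩ : PrimeSpectrum Γ(X, U)) = (sdim f x : ℕ∞) := by
  letI := resAlg f x
  letI : Algebra k Γ(X, U) := (baseToSections f U).toAlgebra
  haveI : Algebra.FiniteType k Γ(X, U) := finiteType_baseToSections f hU
  let p := (hU.primeIdealOf ⟨x, hx⟩).asIdeal
  let ψ : Γ(X, U) →ₐ[k] X.residueField x :=
    { (X.evaluation U x hx).hom with
      commutes' := fun c => RingHom.congr_fun (evaluation_comp_baseToSections f x hx) c }
  let φ : (Γ(X, U) ⧸ p) →ₐ[k] X.residueField x :=
    Ideal.Quotient.liftₐ p ψ fun a ha => (RingHom.mem_ker (f := (X.evaluation U x hx).hom)).mp (by rw [ker_evaluation hU x hx]; exact ha)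
  letI : Algebra (Γ(X, U) ⧸ p) (X.residueField x) := φ.toRingHom.toAlgebra
  haveI : IsScalarTower k (Γ(X, U) ⧸ p) (X.residueField x) := IsScalarTower.of_algHom φ
  have hinj : Function.Injective φ := by
    rw [injective_iff_map_eq_zero]
    intro a ha
    obtain ⟨a, rfl⟩ := Ideal.Quotient.mk_surjective a
    rw [Ideal.Quotient.eq_zero_iff_mem]
    change a ∈ (hU.primeIdealOf ⟨x, hx⟩).asIdeal
    rw [← ker_evaluation hU x hx]
    exact ha
  haveI : FaithfulSMul (Γ(X, U) ⧸ p) (X.residueField x) := (faithfulSMul_iff_algebraMap_injective _ _).mpr hinj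
  haveI : IsFractionRing (Γ(X, U) ⧸ p) (X.residueField x) := IsFractionRing.of_field _ _ fun z => by
    obtain ⟨a, b, h⟩ := exists_evaluation_eq_div hU x hx z
    exact ⟨Ideal.Quotient.mk p a, Ideal.Quotient.mk p b, h⟩
  haveI : Algebra.IsAlgebraic (Γ(X, U) ⧸ p) (X.residueField x) :=
    IsLocalization.isAlgebraic _ (nonZeroDivisors _)
  rw [coheight_eq_tdeg k, sdim, tdeg, tdeg, ← trdeg_add_eq k (Γ(X, U) ⧸ p) (A := X.residueField x), trdeg_eq_zero (R := Γ(X, U) ⧸ p) (A := X.residueField x), add_zero]

theorem trdeg_residueField [LocallyOfFiniteType f] (x : X) :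
    letI := resAlg f x
    Algebra.trdeg k (X.residueField x) = (sdim f x : Cardinal) := by
  letI := resAlg f x
  obtain ⟨U, hU, hx, -⟩ := exists_isAffineOpen_mem_and_subset (U := (⊤ : X.Opens)) (x := x) trivial
  letI : Algebra k Γ(X, U) := (baseToSections f U).toAlgebra
  haveI : Algebra.FiniteType k Γ(X, U) := finiteType_baseToSections f hU
  let p := (hU.primeIdealOf ⟨x, hx⟩).asIdeal
  let ψ : Γ(X, U) →ₐ[k] X.residueField x :=
    { (X.evaluation U x hx).hom with
      commutes' := fun c => RingHom.congr_fun (evaluation_comp_baseToSections f x hx) c }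
  letI : Algebra Γ(X, U) (X.residueField x) := ψ.toRingHom.toAlgebra
  have hlt : Algebra.trdeg k (X.residueField x) < Cardinal.aleph0 := by
    let φ : (Γ(X, U) ⧸ p) →ₐ[k] X.residueField x :=
      Ideal.Quotient.liftₐ p ψ fun a ha => (RingHom.mem_ker (f := (X.evaluation U x hx).hom)).mp (by rw [ker_evaluation hU x hx]; exact ha)
    letI : Algebra (Γ(X, U) ⧸ p) (X.residueField x) := φ.toRingHom.toAlgebra
    haveI : IsScalarTower k (Γ(X, U) ⧸ p) (X.residueField x) := IsScalarTower.of_algHom φ
    have hinj : Function.Injective φ := by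
      rw [injective_iff_map_eq_zero]
      intro a ha
      obtain ⟨a, rfl⟩ := Ideal.Quotient.mk_surjective a
      rw [Ideal.Quotient.eq_zero_iff_mem]
      change a ∈ (hU.primeIdealOf ⟨x, hx⟩).asIdeal
      rw [← ker_evaluation hU x hx]
      exact ha
    haveI : FaithfulSMul (Γ(X, U) ⧸ p) (X.residueField x) := (faithfulSMul_iff_algebraMap_injective _ _).mpr hinj
    haveI : IsFractionRing (Γ(X, U) ⧸ p) (X.residueField x) := IsFractionRing.of_field _ _ fun z => by
      obtain ⟨a, b, h⟩ := exists_evaluation_eq_div hU x hx z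
      exact ⟨Ideal.Quotient.mk p a, Ideal.Quotient.mk p b, h⟩
    haveI : Algebra.IsAlgebraic (Γ(X, U) ⧸ p) (X.residueField x) :=
      IsLocalization.isAlgebraic _ (nonZeroDivisors _)
    rw [← trdeg_add_eq k (Γ(X, U) ⧸ p) (A := X.residueField x), trdeg_eq_zero (R := Γ(X, U) ⧸ p) (A := X.residueField x), add_zero, trdeg_eq_tdeg k]
    exact Cardinal.natCast_lt_aleph0
  rw [sdim, tdeg, Cardinal.cast_toNat_of_lt_aleph0 hlt]

end Chart

theorem fromSpec_le_iff {U : X.Opens} (hU : IsAffineOpen U) (p q : PrimeSpectrum Γ(X, U)) :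
    hU.fromSpec q ≤ hU.fromSpec p ↔ p ≤ q := by
  rw [le_iff_specializes', hU.fromSpec.isOpenEmbedding.isInducing.specializes_iff]
  exact (PrimeSpectrum.le_iff_specializes p q).symm

theorem height_eq_sdim [LocallyOfFiniteType f] (x : X) : height x = (sdim f x : ℕ∞) := by
  have mapLt : ∀ {U : X.Opens} (hU : IsAffineOpen U) (p q : PrimeSpectrum Γ(X, U)),
      hU.fromSpec q < hU.fromSpec p ↔ p < q := fun hU p q => by
    simp only [lt_iff_le_not_ge, fromSpec_le_iff]
  refine le_antisymm (height_le fun l hl => ?_) ?_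
  · obtain ⟨V, hV, hzV, -⟩ := exists_isAffineOpen_mem_and_subset (U := (⊤ : X.Opens)) (x := l.head) trivial
    have hmem : ∀ i, l i ∈ V := fun i =>
      Specializes.mem_open (show l i ⤳ l.head from l.monotone (Fin.zero_le i)) V.2 hzV
    let pr : Fin (l.length + 1) → PrimeSpectrum Γ(X, V) := fun i => hV.primeIdealOf ⟨l (Fin.rev i), hmem _⟩
    have hpr : StrictMono pr := fun i j hij => by
      rw [← mapLt hV, hV.fromSpec_primeIdealOf, hV.fromSpec_primeIdealOf]
      exact l.strictMono (Fin.rev_lt_rev.mpr hij)
    let l' := LTSeries.mk l.length pr hpr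
    have hxV : x ∈ V := hl ▸ hmem (Fin.last _)
    rw [← sdim_eq_coheight f hV x hxV]
    refine length_le_coheight (p := l') (le_of_eq ?_)
    change hV.primeIdealOf ⟨x, hxV⟩ = pr 0
    simp only [pr]
    congr 2
    rw [Fin.rev_zero]
    exact hl.symm
  · obtain ⟨U, hU, hx, -⟩ := exists_isAffineOpen_mem_and_subset (U := (⊤ : X.Opens)) (x := x) trivial
    rw [← sdim_eq_coheight f hU x hx]
    refine coheight_le fun l hl => ?_
    let l' : LTSeries X := LTSeries.mk l.length (fun i => hU.fromSpec (l (Fin.rev i))) fun i j hij => by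
      rw [mapLt hU]
      exact l.strictMono (Fin.rev_lt_rev.mpr hij)
    refine length_le_height (p := l') (le_of_eq ?_)
    change hU.fromSpec (l (Fin.rev (Fin.last _))) = x
    rw [Fin.rev_last]
    change hU.fromSpec l.head = x
    rw [hl]
    exact hU.fromSpec_primeIdealOf ⟨x, hx⟩

theorem dim_eq_iSup_sdim [LocallyOfFiniteType f] :
    topologicalKrullDim X = ⨆ x : X, ((sdim f x : ℕ) : WithBot ℕ∞) := by
  rw [scheme_dim_eq_iSup_height]
  exact iSup_congr fun x => by rw [height_eq_sdim f]; rfl

theorem dim_eq_sdim_genericPoint [LocallyOfFiniteType f] [IrreducibleSpace X] :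
    topologicalKrullDim X = (sdim f (genericPoint X) : WithBot ℕ∞) := by
  rw [topologicalKrullDim_eq_height_genericPoint, height_eq_sdim f]; rfl

theorem dim_closure_singleton [LocallyOfFiniteType f] (x : X) :
    topologicalKrullDim (closure ({x} : Set X)) = (sdim f x : WithBot ℕ∞) := by
  rw [topologicalKrullDim_closure_singleton, height_eq_sdim f]; rfl

theorem dim_irreducible_isClosed [LocallyOfFiniteType f] {Z : Set X} (hZ : IsClosed Z)
    (hi : IsIrreducible Z) : topologicalKrullDim Z = (sdim f hi.genericPoint : WithBot ℕ∞) := by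
  rw [topologicalKrullDim_irreducible_isClosed hZ, height_eq_sdim f]; rfl

theorem sdim_lt_of_specializes [LocallyOfFiniteType f] {x y : X} (h : x ⤳ y) (hne : x ≠ y) :
    sdim f y < sdim f x := by
  have h1 := height_add_one_le (lt_of_specializes_ne h hne.symm)
  rw [height_eq_sdim f, height_eq_sdim f] at h1
  exact_mod_cast h1

theorem sdim_eq_zero_iff_isClosed [LocallyOfFiniteType f] (x : X) :
    sdim f x = 0 ↔ IsClosed ({x} : Set X) := by
  rw [← Nat.cast_inj (R := ℕ∞), ← height_eq_sdim f, Nat.cast_zero, height_eq_zero]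
  constructor
  · intro hmin
    rw [← closure_subset_iff_isClosed]
    intro y hy
    have hle : y ≤ x := specializes_iff_mem_closure.mpr hy
    exact (Specializes.antisymm (show x ⤳ y from hle) (hmin hle)).eq.symm
  · intro hc y hy
    exact le_of_eq (Specializes.mem_closed (show x ⤳ y from hy) hc rfl).symm

/-- Additivity of transcendence degrees along a morphism. -/
theorem trdeg_comp {Z : Scheme.{u}} (g : Z ⟶ X) (z : Z) :
    letI := resAlg f (g z)
    letI := resAlg (g ≫ f) z
    letI := (g.residueFieldMap z).hom.toAlgebra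
    Algebra.trdeg k (Z.residueField z) =
      Algebra.trdeg k (X.residueField (g z)) + Algebra.trdeg (X.residueField (g z)) (Z.residueField z) := by
  letI := resAlg f (g z)
  letI := resAlg (g ≫ f) z
  letI := (g.residueFieldMap z).hom.toAlgebra
  haveI : IsScalarTower k (X.residueField (g z)) (Z.residueField z) :=
    IsScalarTower.of_algebraMap_eq' (baseToRes_comp f g z)
  exact (trdeg_add_eq k _).symm

theorem sdim_comp_eq [LocallyOfFiniteType f] {Z : Scheme.{u}} (g : Z ⟶ X) [LocallyOfFiniteType g] (z : Z) :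
    sdim (g ≫ f) z = sdim f (g z) +
      (letI := (g.residueFieldMap z).hom.toAlgebra
       tdeg (X.residueField (g z)) (Z.residueField z)) := by
  have h := trdeg_comp f g z
  rw [trdeg_residueField (g ≫ f) z, trdeg_residueField f (g z)] at h
  have hlt := h ▸ (Cardinal.natCast_lt_aleph0 (n := sdim (g ≫ f) z))
  rw [Cardinal.add_lt_aleph0_iff] at hlt
  have := congrArg Cardinal.toNat h
  rw [Cardinal.toNat_natCast, Cardinal.toNat_add hlt.1 hlt.2, Cardinal.toNat_natCast] at this
  exact this

theorem sdim_le_comp [LocallyOfFiniteType f] {Z : Scheme.{u}} (g : Z ⟶ X) [LocallyOfFiniteType g] (z : Z) :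
    sdim f (g z) ≤ sdim (g ≫ f) z :=
  (sdim_comp_eq f g z).ge.trans' (Nat.le_add_right _ _)

/-- A morphism inducing bijections on residue fields preserves `sdim`. -/
theorem sdim_comp_of_surjective {Z : Scheme.{u}} (g : Z ⟶ X) [SurjectiveOnStalks g] (z : Z) :
    sdim (g ≫ f) z = sdim f (g z) := by
  letI := resAlg f (g z)
  letI := resAlg (g ≫ f) z
  have hsurj : Function.Surjective (g.residueFieldMap z) := by
    intro b
    obtain ⟨b, rfl⟩ := Scheme.residue_surjective Z z b
    obtain ⟨a, rfl⟩ := g.stalkMap_surjective z b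
    exact ⟨X.residue _ a, ConcreteCategory.congr_hom (Scheme.residue_residueFieldMap g z) a⟩
  let e : X.residueField (g z) ≃ₐ[k] Z.residueField z :=
    AlgEquiv.ofBijective
      { (g.residueFieldMap z).hom with commutes' := fun c => (RingHom.congr_fun (baseToRes_comp f g z) c).symm }
      ⟨(g.residueFieldMap z).hom.injective, hsurj⟩
  exact congrArg Cardinal.toNat e.trdeg_eq.symm

end Groth.Agent.VarDim
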