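import Groth.Agent.Lib.VarDim.Alg
import Mathlib.RingTheory.Ideal.KrullsHeightTheorem
import Mathlib.RingTheory.Ideal.MinimalPrime.Basic
import Mathlib.RingTheory.Algebraic.Integral

/-!
Dimension inequalities for a homomorphism of finitely generated algebras over a field.

Below `A → B` are `k`-algebras of finite type.

* `exists_le_same_comap`: lower bound for the dimension of fibres;
* `exists_notMem_forall_coheight_le`: upper bound for the dimension of fibres over a dense open.
-/

universe u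

namespace Groth.Agent.VarDim

open Order

variable (k : Type u) [Field k] (A B : Type u) [CommRing A] [CommRing B] [Algebra k A] [Algebra k B]
  [Algebra A B] [IsScalarTower k A B] [Algebra.FiniteType k A] [Algebra.FiniteType k B]

include k in
/-- Lower bound on fibre dimensions, for domains. -/
theorem exists_le_same_comap_domain [IsDomain A] [IsDomain B] (P : PrimeSpectrum B) :
    ∃ P' : PrimeSpectrum B, P' ≤ P ∧
      PrimeSpectrum.comap (algebraMap A B) P' = PrimeSpectrum.comap (algebraMap A B) P ∧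
      (tdeg k B : ℕ∞) + coheight (PrimeSpectrum.comap (algebraMap A B) P) ≤ coheight P' + (tdeg k A : ℕ∞) := by
  haveI : IsNoetherianRing A := Algebra.FiniteType.isNoetherianRing k A
  haveI : IsNoetherianRing B := Algebra.FiniteType.isNoetherianRing k B
  set p := PrimeSpectrum.comap (algebraMap A B) P with hp
  set I := p.asIdeal.map (algebraMap A B) with hI
  have hIP : I ≤ P.asIdeal := Ideal.map_le_iff_le_comap.mpr le_rfl
  obtain ⟨Q, hQ, hQP⟩ := Ideal.exists_minimalPrimes_le hIP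
  haveI : Q.IsPrime := hQ.1.1
  have hQp : Q.comap (algebraMap A B) = p.asIdeal :=
    le_antisymm (Ideal.comap_mono hQP) (Ideal.map_le_iff_le_comap.mp hQ.1.2)
  haveI : Q.LiesOver p.asIdeal := ⟨hQp.symm⟩
  refine ⟨⟨Q, inferInstance⟩, hQP, PrimeSpectrum.ext hQp, ?_⟩
  have hkey := Ideal.height_le_height_add_of_liesOver p.asIdeal Q
  haveI : (Q.map (Ideal.Quotient.mk I)).IsPrime :=
    Ideal.map_isPrime_of_surjective Ideal.Quotient.mk_surjective (by rw [Ideal.mk_ker]; exact hQ.1.2)
  have hzero : (Q.map (Ideal.Quotient.mk I)).height = 0 := by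
    rw [Ideal.height_eq_zero_iff]
    refine ⟨⟨inferInstance, bot_le⟩, fun R hR hRQ => ?_⟩
    haveI := hR.1
    have hle : R.comap (Ideal.Quotient.mk I) ≤ Q := by
      refine (Ideal.comap_mono hRQ).trans ?_
      rw [Ideal.comap_map_of_surjective _ Ideal.Quotient.mk_surjective, ← RingHom.ker_eq_comap_bot,
        Ideal.mk_ker]
      exact sup_le le_rfl hQ.1.2
    have hge : Q ≤ R.comap (Ideal.Quotient.mk I) :=
      hQ.2 ⟨Ideal.IsPrime.comap _, fun a ha => by
        rw [Ideal.mem_comap, Ideal.Quotient.eq_zero_iff_mem.mpr ha]; exact zero_mem _⟩ hle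
    exact (Ideal.map_mono hge).trans (le_of_eq (Ideal.map_comap_of_surjective _ Ideal.Quotient.mk_surjective R))
  rw [← hI, hzero, add_zero, show Q = (⟨Q, inferInstance⟩ : PrimeSpectrum B).asIdeal from rfl,
    PrimeSpectrum.height_eq_orderHeight, PrimeSpectrum.height_eq_orderHeight] at hkey
  have hB := height_add_coheight_nat k B (⟨Q, inferInstance⟩ : PrimeSpectrum B)
  have hA := height_add_coheight_nat k A p
  rw [← hB, ← hA]
  calc height (⟨Q, inferInstance⟩ : PrimeSpectrum B) + coheight (⟨Q, inferInstance⟩ : PrimeSpectrum B) + coheight p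
      = coheight (⟨Q, inferInstance⟩ : PrimeSpectrum B) + (height (⟨Q, inferInstance⟩ : PrimeSpectrum B) + coheight p) := by abel
    _ ≤ coheight (⟨Q, inferInstance⟩ : PrimeSpectrum B) + (height p + coheight p) := by gcongr

include k in
/-- Upper bound on fibre dimensions over a dense open, for domains. -/
theorem exists_ne_zero_forall_coheight_le_domain [IsDomain A] [IsDomain B]
    (hinj : Function.Injective (algebraMap A B)) :
    ∃ c : B, c ≠ 0 ∧ ∀ P : PrimeSpectrum B, c ∉ P.asIdeal →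
      coheight P + (tdeg k A : ℕ∞) ≤ (tdeg k B : ℕ∞) + coheight (PrimeSpectrum.comap (algebraMap A B) P) := by
  classical
  haveI : FaithfulSMul A B := (faithfulSMul_iff_algebraMap_injective _ _).mpr hinj
  haveI : Algebra.FiniteType A B := Algebra.FiniteType.of_restrictScalars_finiteType k A B
  obtain ⟨s, hs⟩ := Algebra.FiniteType.out (R := A) (A := B)
  haveI : Algebra.IsAlgebraic (Algebra.adjoin A (s : Set B)) B :=
    ⟨fun b => isAlgebraic_algebraMap (⟨b, hs ▸ Algebra.mem_top⟩ : Algebra.adjoin A (s : Set B))⟩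
  obtain ⟨t, hts, ht⟩ := exists_isTranscendenceBasis_subset (R := A) (s : Set B)
  have htfin : t.Finite := s.finite_toSet.subset hts
  haveI := htfin.fintype
  have halg := ht.isAlgebraic
  rw [Subtype.range_coe] at halg
  have hp : ∀ b : B, ∃ p : Polynomial (Algebra.adjoin A t), p ≠ 0 ∧ Polynomial.aeval b p = 0 :=
    fun b => halg.isAlgebraic b
  choose p hp0 hpb using hp
  refine ⟨∏ b ∈ s, ((p b).leadingCoeff : B), Finset.prod_ne_zero_iff.mpr fun b _ => ?_, fun P hP => ?_⟩
  · simpa using hp0 b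
  let q := PrimeSpectrum.comap (algebraMap A B) P
  let C := B ⧸ P.asIdeal
  let π : B →ₐ[A] C := Ideal.Quotient.mkₐ A P.asIdeal
  letI : Algebra (A ⧸ q.asIdeal) C := (Ideal.quotientMap P.asIdeal (algebraMap A B) le_rfl).toAlgebra
  haveI : IsScalarTower A (A ⧸ q.asIdeal) C := IsScalarTower.of_algebraMap_eq fun a => rfl
  haveI : IsScalarTower k (A ⧸ q.asIdeal) C := IsScalarTower.of_algebraMap_eq fun a => by
    change _ = Ideal.quotientMap P.asIdeal (algebraMap A B) le_rfl (Ideal.Quotient.mk _ (algebraMap k A a))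
    rw [Ideal.quotientMap_mk, ← IsScalarTower.algebraMap_apply k A B]
    rfl
  haveI : FaithfulSMul (A ⧸ q.asIdeal) C := (faithfulSMul_iff_algebraMap_injective _ _).mpr
    Ideal.quotientMap_injective
  let S := Algebra.adjoin (A ⧸ q.asIdeal) (π '' t)
  have hmem : ∀ x : Algebra.adjoin A t, π (x : B) ∈ S := fun x => by
    have h1 : Algebra.adjoin A (π '' t) ≤ S.restrictScalars A :=
      Algebra.adjoin_le fun y hy => Algebra.subset_adjoin hy
    refine h1 ?_
    rw [← AlgHom.map_adjoin]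
    exact ⟨x, x.2, rfl⟩
  let ρ : Algebra.adjoin A t →+* S :=
    { toFun := fun x => ⟨π (x : B), hmem x⟩
      map_one' := Subtype.ext (map_one π)
      map_mul' := fun x y => Subtype.ext (map_mul π _ _)
      map_zero' := Subtype.ext (map_zero π)
      map_add' := fun x y => Subtype.ext (map_add π _ _) }
  have hπs : ∀ b ∈ s, IsAlgebraic S (π b) := fun b hb => by
    refine ⟨(p b).map ρ, fun h0 => ?_, ?_⟩
    · have h := congrArg (fun r => Polynomial.coeff r (p b).natDegree) h0
      simp only [Polynomial.coeff_map, Polynomial.coeff_zero] at h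
      apply hP
      refine P.asIdeal.mem_of_dvd (Finset.dvd_prod_of_mem _ hb) ?_
      exact Ideal.Quotient.eq_zero_iff_mem.mp (congrArg Subtype.val h)
    · have hh := congrArg π (hpb b)
      rw [map_zero] at hh
      rw [Polynomial.aeval_def, Polynomial.eval₂_map, ← hh, Polynomial.aeval_def]
      exact (Polynomial.hom_eval₂ (p b) (algebraMap _ B) π.toRingHom b).symm
  haveI : Algebra.IsAlgebraic S C := by
    refine ⟨fun x => ?_⟩
    have htop : x ∈ Algebra.adjoin S (π '' s) := by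
      obtain ⟨y, rfl⟩ := Ideal.Quotient.mk_surjective x
      have h1 : Algebra.adjoin A (π '' s) ≤ (Algebra.adjoin S (π '' s)).restrictScalars A :=
        Algebra.adjoin_le Algebra.subset_adjoin
      refine h1 ?_
      rw [← AlgHom.map_adjoin, hs]
      exact ⟨y, Algebra.mem_top, rfl⟩
    exact (Algebra.isAlgebraic_adjoin_iff.mpr (Set.forall_mem_image.mpr hπs)) x htop
  have h1 : Algebra.trdeg (A ⧸ q.asIdeal) C ≤ Algebra.trdeg A B := by
    rw [← ht.cardinalMk_eq_trdeg]
    exact (Algebra.IsAlgebraic.trdeg_le_cardinalMk (A ⧸ q.asIdeal) (π '' t)).trans Cardinal.mk_image_le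
  have h2 := trdeg_add_eq k (A ⧸ q.asIdeal) (A := C)
  have h3 := trdeg_add_eq k A (A := B)
  rw [coheight_eq_tdeg k B P, coheight_eq_tdeg k A q]
  rw [trdeg_eq_tdeg k A, trdeg_eq_tdeg k B] at h3
  rw [trdeg_eq_tdeg k (A ⧸ q.asIdeal), trdeg_eq_tdeg k C] at h2
  have h4 : ((tdeg k C + tdeg k A : ℕ) : Cardinal) ≤ ((tdeg k B + tdeg k (A ⧸ q.asIdeal) : ℕ) : Cardinal) := by
    push_cast
    rw [← h2, ← h3]
    calc (tdeg k (A ⧸ q.asIdeal) : Cardinal) + Algebra.trdeg (A ⧸ q.asIdeal) C + tdeg k A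
        = tdeg k (A ⧸ q.asIdeal) + tdeg k A + Algebra.trdeg (A ⧸ q.asIdeal) C := by abel
      _ ≤ tdeg k (A ⧸ q.asIdeal) + tdeg k A + Algebra.trdeg A B := by gcongr
      _ = _ := by abel
  exact_mod_cast Nat.cast_le.mp h4

section General

variable (ζ : PrimeSpectrum B)

/-- The preimage in `B` of a prime of the quotient. -/
theorem coheight_comap_mk (Q : PrimeSpectrum (B ⧸ ζ.asIdeal)) :
    coheight (PrimeSpectrum.comap (Ideal.Quotient.mk ζ.asIdeal) Q) = coheight Q :=
  coheight_comap_eq (R := B) (S := B ⧸ ζ.asIdeal) Q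

theorem exists_of_le {P : PrimeSpectrum B} (h : ζ ≤ P) :
    ∃ Q, PrimeSpectrum.comap (Ideal.Quotient.mk ζ.asIdeal) Q = P := by
  refine ⟨⟨P.asIdeal.map (Ideal.Quotient.mk ζ.asIdeal),
    Ideal.map_isPrime_of_surjective Ideal.Quotient.mk_surjective (by rw [Ideal.mk_ker]; exact h)⟩, ?_⟩
  refine PrimeSpectrum.ext ?_
  change (P.asIdeal.map _).comap _ = P.asIdeal
  rw [Ideal.comap_map_of_surjective _ Ideal.Quotient.mk_surjective, ← RingHom.ker_eq_comap_bot,
    Ideal.mk_ker, sup_eq_left.mpr h]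

theorem le_comap_mk (Q : PrimeSpectrum (B ⧸ ζ.asIdeal)) :
    ζ ≤ PrimeSpectrum.comap (Ideal.Quotient.mk ζ.asIdeal) Q := fun a ha => by
  change Ideal.Quotient.mk ζ.asIdeal a ∈ Q.asIdeal
  rw [Ideal.Quotient.eq_zero_iff_mem.mpr ha]
  exact zero_mem _

include k in
/-- Lower bound on fibre dimensions. -/
theorem exists_le_same_comap {P : PrimeSpectrum B} (h : ζ ≤ P) :
    ∃ P', ζ ≤ P' ∧ P' ≤ P ∧
      PrimeSpectrum.comap (algebraMap A B) P' = PrimeSpectrum.comap (algebraMap A B) P ∧
      coheight ζ + coheight (PrimeSpectrum.comap (algebraMap A B) P) ≤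
        coheight P' + coheight (PrimeSpectrum.comap (algebraMap A B) ζ) := by
  set η := PrimeSpectrum.comap (algebraMap A B) ζ with hη
  letI : Algebra (A ⧸ η.asIdeal) (B ⧸ ζ.asIdeal) :=
    (Ideal.quotientMap ζ.asIdeal (algebraMap A B) le_rfl).toAlgebra
  haveI : IsScalarTower k (A ⧸ η.asIdeal) (B ⧸ ζ.asIdeal) := IsScalarTower.of_algebraMap_eq fun a => by
    change _ = Ideal.quotientMap ζ.asIdeal (algebraMap A B) le_rfl (Ideal.Quotient.mk _ (algebraMap k A a))
    rw [Ideal.quotientMap_mk, ← IsScalarTower.algebraMap_apply k A B]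
    rfl
  obtain ⟨Q, rfl⟩ := exists_of_le B ζ h
  obtain ⟨Q', hle, hcomap, hineq⟩ := exists_le_same_comap_domain k (A ⧸ η.asIdeal) (B ⧸ ζ.asIdeal) Q
  have hsq : ∀ R : PrimeSpectrum (B ⧸ ζ.asIdeal),
      PrimeSpectrum.comap (algebraMap A B) (PrimeSpectrum.comap (Ideal.Quotient.mk ζ.asIdeal) R) =
      PrimeSpectrum.comap (Ideal.Quotient.mk η.asIdeal) (PrimeSpectrum.comap (algebraMap (A ⧸ η.asIdeal) (B ⧸ ζ.asIdeal)) R) :=
    fun R => PrimeSpectrum.ext (by ext a; rfl)
  refine ⟨_, le_comap_mk B ζ Q', Ideal.comap_mono hle, by rw [hsq, hsq, hcomap], ?_⟩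
  rw [hsq, coheight_comap_mk A η, coheight_comap_mk B ζ, coheight_eq_tdeg k B ζ, coheight_eq_tdeg k A η]
  exact hineq

include k in
/-- Upper bound on fibre dimensions over a dense open. -/
theorem exists_notMem_forall_coheight_le :
    ∃ c : B, c ∉ ζ.asIdeal ∧ ∀ P : PrimeSpectrum B, ζ ≤ P → c ∉ P.asIdeal →
      coheight P + coheight (PrimeSpectrum.comap (algebraMap A B) ζ) ≤
        coheight ζ + coheight (PrimeSpectrum.comap (algebraMap A B) P) := by
  set η := PrimeSpectrum.comap (algebraMap A B) ζ with hη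
  letI : Algebra (A ⧸ η.asIdeal) (B ⧸ ζ.asIdeal) :=
    (Ideal.quotientMap ζ.asIdeal (algebraMap A B) le_rfl).toAlgebra
  haveI : IsScalarTower k (A ⧸ η.asIdeal) (B ⧸ ζ.asIdeal) := IsScalarTower.of_algebraMap_eq fun a => by
    change _ = Ideal.quotientMap ζ.asIdeal (algebraMap A B) le_rfl (Ideal.Quotient.mk _ (algebraMap k A a))
    rw [Ideal.quotientMap_mk, ← IsScalarTower.algebraMap_apply k A B]
    rfl
  obtain ⟨c, hc0, hc⟩ := exists_ne_zero_forall_coheight_le_domain k (A ⧸ η.asIdeal) (B ⧸ ζ.asIdeal)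
    Ideal.quotientMap_injective
  obtain ⟨c, rfl⟩ := Ideal.Quotient.mk_surjective c
  refine ⟨c, fun h => hc0 (Ideal.Quotient.eq_zero_iff_mem.mpr h), fun P hP hcP => ?_⟩
  obtain ⟨Q, rfl⟩ := exists_of_le B ζ hP
  have hsq : PrimeSpectrum.comap (algebraMap A B) (PrimeSpectrum.comap (Ideal.Quotient.mk ζ.asIdeal) Q) =
      PrimeSpectrum.comap (Ideal.Quotient.mk η.asIdeal) (PrimeSpectrum.comap (algebraMap (A ⧸ η.asIdeal) (B ⧸ ζ.asIdeal)) Q) :=
    PrimeSpectrum.ext (by ext a; rfl)
  rw [hsq, coheight_comap_mk A η, coheight_comap_mk B ζ, coheight_eq_tdeg k B ζ, coheight_eq_tdeg k A η]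
  exact hc Q hcP

end General

end Groth.Agent.VarDim
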