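import Groth.Agent.Lib.VarDim.Scheme
import Groth.Agent.Lib.VarDim.FibreAlg
import Mathlib.AlgebraicGeometry.Noetherian

/-!
Fibre dimensions for morphisms of schemes locally of finite type over a field.

`q : Y ⟶ Spec k`, `f : X ⟶ Y`; dimensions are measured by `sdim (f ≫ q)` on `X` and `sdim q` on `Y`.

* `exists_fibre_lower`, `exists_opens_fibre_upper`: the dimension inequalities;
* `sdim_fiber`: additivity on the scheme-theoretic fibre;
* `dim_preimage_singleton_le_iff`, `le_dim_preimage_singleton`: dimension of set-theoretic fibres.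
-/

universe u

namespace Groth.Agent.VarDim

open CategoryTheory AlgebraicGeometry Order Topology

variable {k : Type u} [Field k] {X Y : Scheme.{u}} (q : Y ⟶ Spec (CommRingCat.of k)) (f : X ⟶ Y)

theorem exists_finite_generic [TopologicalSpace.NoetherianSpace X] {C : Set X} (hC : IsClosed C) :
    ∃ G : Finset X, ∀ x, x ∈ C ↔ ∃ g ∈ G, g ⤳ x := by
  classical
  obtain ⟨S, hSfin, hScl, hSirr, rfl⟩ := TopologicalSpace.NoetherianSpace.exists_finite_set_isClosed_irreducible hC
  haveI := hSfin.fintype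
  refine ⟨Finset.univ.image fun Z : S => (hSirr Z.1 Z.2).genericPoint, fun x => ⟨fun hx => ?_, fun ⟨g, hg, hgx⟩ => ?_⟩⟩
  · obtain ⟨Z, hZ, hxZ⟩ := hx
    refine ⟨_, Finset.mem_image_of_mem _ (Finset.mem_univ ⟨Z, hZ⟩), ?_⟩
    rw [specializes_iff_mem_closure, (hSirr Z hZ).closure_genericPoint (hScl Z hZ)]
    exact hxZ
  · obtain ⟨⟨Z, hZ⟩, -, rfl⟩ := Finset.mem_image.mp hg
    refine ⟨Z, hZ, ?_⟩
    rw [← (hSirr Z hZ).closure_genericPoint (hScl Z hZ), ← specializes_iff_mem_closure]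
    exact hgx

theorem baseToSections_comp {U : X.Opens} {V : Y.Opens} (e : U ≤ f ⁻¹ᵁ V) :
    baseToSections (f ≫ q) U = (f.appLE V U e).hom.comp (baseToSections q V) := by
  rw [baseToSections, baseToSections, ← CommRingCat.hom_comp, Category.assoc, Category.assoc,
    Scheme.Hom.map_appLE, Scheme.Hom.comp_appTop, Category.assoc]
  rfl

/-- Data of affine charts around a point and its image. -/
theorem exists_chart (x : X) :
    ∃ (U : X.Opens) (V : Y.Opens), IsAffineOpen U ∧ IsAffineOpen V ∧ U ≤ f ⁻¹ᵁ V ∧ x ∈ U := by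
  obtain ⟨V, hV, hyV, -⟩ := exists_isAffineOpen_mem_and_subset (U := (⊤ : Y.Opens)) (x := f x) trivial
  obtain ⟨U, hU, hxU, hUV⟩ := exists_isAffineOpen_mem_and_subset (U := f ⁻¹ᵁ V) (x := x) hyV
  exact ⟨U, V, hU, hV, hUV, hxU⟩

theorem primeIdealOf_le_iff {U : X.Opens} (hU : IsAffineOpen U) (x y : U) :
    (hU.primeIdealOf x : PrimeSpectrum Γ(X, U)) ≤ hU.primeIdealOf y ↔ (x : X) ⤳ (y : X) := by
  rw [← fromSpec_le_iff hU, hU.fromSpec_primeIdealOf, hU.fromSpec_primeIdealOf]
  rfl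

theorem fromSpec_mem {U : X.Opens} (hU : IsAffineOpen U) (p : PrimeSpectrum Γ(X, U)) : hU.fromSpec p ∈ U := by
  have : hU.fromSpec p ∈ Set.range hU.fromSpec := ⟨p, rfl⟩
  rwa [hU.range_fromSpec] at this

theorem primeIdealOf_fromSpec {U : X.Opens} (hU : IsAffineOpen U) (p : PrimeSpectrum Γ(X, U)) :
    hU.primeIdealOf ⟨hU.fromSpec p, fromSpec_mem hU p⟩ = p :=
  hU.fromSpec.isOpenEmbedding.injective (hU.fromSpec_primeIdealOf _)

variable [LocallyOfFiniteType q] [LocallyOfFiniteType f]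

/-- Lower bound for dimensions of fibres. -/
theorem exists_fibre_lower {ζ x : X} (h : ζ ⤳ x) :
    ∃ x', ζ ⤳ x' ∧ x' ⤳ x ∧ f x' = f x ∧ sdim (f ≫ q) ζ + sdim q (f x) ≤ sdim (f ≫ q) x' + sdim q (f ζ) := by
  obtain ⟨U, V, hU, hV, e, hxU⟩ := exists_chart f x
  have hζU : ζ ∈ U := h.mem_open U.2 hxU
  letI : Algebra Γ(Y, V) Γ(X, U) := (f.appLE V U e).hom.toAlgebra
  letI : Algebra k Γ(Y, V) := (baseToSections q V).toAlgebra
  letI : Algebra k Γ(X, U) := (baseToSections (f ≫ q) U).toAlgebra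
  haveI : IsScalarTower k Γ(Y, V) Γ(X, U) := IsScalarTower.of_algebraMap_eq' (baseToSections_comp q f e)
  haveI : Algebra.FiniteType k Γ(Y, V) := finiteType_baseToSections q hV
  haveI : Algebra.FiniteType k Γ(X, U) := finiteType_baseToSections (f ≫ q) hU
  obtain ⟨P', hge, hle, hcomap, hineq⟩ := exists_le_same_comap k Γ(Y, V) Γ(X, U)
    (hU.primeIdealOf ⟨ζ, hζU⟩) (P := hU.primeIdealOf ⟨x, hxU⟩) ((primeIdealOf_le_iff hU _ _).mpr h)
  have hp : ∀ (z : X) (hz : z ∈ U), PrimeSpectrum.comap (algebraMap Γ(Y, V) Γ(X, U)) (hU.primeIdealOf ⟨z, hz⟩) =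
      hV.primeIdealOf ⟨f z, e hz⟩ := fun z hz => IsAffineOpen.comap_primeIdealOf_appLE V hV U hU e hz
  obtain ⟨x', hx'U, rfl⟩ : ∃ (x' : X) (hx' : x' ∈ U), hU.primeIdealOf ⟨x', hx'⟩ = P' :=
    ⟨_, fromSpec_mem hU P', primeIdealOf_fromSpec hU P'⟩
  rw [hp, hp] at hineq hcomap
  have hfx : f x' = f x := by
    have := congrArg hV.fromSpec hcomap
    rwa [hV.fromSpec_primeIdealOf, hV.fromSpec_primeIdealOf] at this
  rw [sdim_eq_coheight (f ≫ q) hU, sdim_eq_coheight (f ≫ q) hU, sdim_eq_coheight q hV, sdim_eq_coheight q hV] at hineq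
  exact ⟨x', (primeIdealOf_le_iff hU ⟨ζ, hζU⟩ ⟨x', hx'U⟩).mp hge,
    (primeIdealOf_le_iff hU ⟨x', hx'U⟩ ⟨x, hxU⟩).mp hle, hfx, by exact_mod_cast hineq⟩

/-- Upper bound for dimensions of fibres on a neighbourhood of a point. -/
theorem exists_nhd_fibre_upper (ζ : X) :
    ∃ U : X.Opens, ζ ∈ U ∧ ∀ x ∈ U, ζ ⤳ x →
      sdim (f ≫ q) x + sdim q (f ζ) ≤ sdim (f ≫ q) ζ + sdim q (f x) := by
  obtain ⟨U, V, hU, hV, e, hζU⟩ := exists_chart f ζ
  letI : Algebra Γ(Y, V) Γ(X, U) := (f.appLE V U e).hom.toAlgebra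
  letI : Algebra k Γ(Y, V) := (baseToSections q V).toAlgebra
  letI : Algebra k Γ(X, U) := (baseToSections (f ≫ q) U).toAlgebra
  haveI : IsScalarTower k Γ(Y, V) Γ(X, U) := IsScalarTower.of_algebraMap_eq' (baseToSections_comp q f e)
  haveI : Algebra.FiniteType k Γ(Y, V) := finiteType_baseToSections q hV
  haveI : Algebra.FiniteType k Γ(X, U) := finiteType_baseToSections (f ≫ q) hU
  obtain ⟨c, hc, hineq⟩ := exists_notMem_forall_coheight_le k Γ(Y, V) Γ(X, U) (hU.primeIdealOf ⟨ζ, hζU⟩)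
  have hbasic : ∀ (z : X) (hz : z ∈ U), z ∈ X.basicOpen c ↔ c ∉ (hU.primeIdealOf ⟨z, hz⟩).asIdeal := fun z hz => by
    rw [← ker_evaluation hU z hz, RingHom.mem_ker]
    exact (Scheme.evaluation_ne_zero_iff_mem_basicOpen X z hz c).symm
  refine ⟨X.basicOpen c, (hbasic ζ hζU).mpr hc, fun x hx hspec => ?_⟩
  have hxU : x ∈ U := X.basicOpen_le c hx
  have hp : ∀ (z : X) (hz : z ∈ U), PrimeSpectrum.comap (algebraMap Γ(Y, V) Γ(X, U)) (hU.primeIdealOf ⟨z, hz⟩) =
      hV.primeIdealOf ⟨f z, e hz⟩ := fun z hz => IsAffineOpen.comap_primeIdealOf_appLE V hV U hU e hz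
  have := hineq (hU.primeIdealOf ⟨x, hxU⟩) ((primeIdealOf_le_iff hU _ _).mpr hspec) ((hbasic x hxU).mp hx)
  rw [hp, hp, sdim_eq_coheight (f ≫ q) hU, sdim_eq_coheight (f ≫ q) hU, sdim_eq_coheight q hV,
    sdim_eq_coheight q hV] at this
  exact_mod_cast this

/-- Upper bound for dimensions of fibres over a neighbourhood in the base. -/
theorem exists_opens_fibre_upper [QuasiCompact q] [QuasiCompact f] (ζ : X) :
    ∃ V : Y.Opens, f ζ ∈ V ∧ ∀ x, f x ∈ V → ζ ⤳ x →
      sdim (f ≫ q) x + sdim q (f ζ) ≤ sdim (f ≫ q) ζ + sdim q (f x) := by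
  haveI : CompactSpace X := QuasiCompact.compactSpace_of_compactSpace (f ≫ q)
  haveI : IsLocallyNoetherian X := LocallyOfFiniteType.isLocallyNoetherian (f ≫ q)
  haveI : IsNoetherian X := {}
  induction hn : sdim (f ≫ q) ζ using Nat.strong_induction_on generalizing ζ with
  | _ n ih =>
    classical
    subst hn
    obtain ⟨U, hζU, hU⟩ := exists_nhd_fibre_upper q f ζ
    obtain ⟨G, hG⟩ := exists_finite_generic (X := X) (C := closure {ζ} ∩ (U : Set X)ᶜ)
      (isClosed_closure.inter U.2.isClosed_compl)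
    have hstep : ∀ g ∈ G, ∃ V : Y.Opens, f ζ ∈ V ∧ ∀ x, f x ∈ V → g ⤳ x →
        sdim (f ≫ q) x + sdim q (f ζ) ≤ sdim (f ≫ q) ζ + sdim q (f x) := by
      intro g hg
      have hgC : g ∈ closure {ζ} ∩ (U : Set X)ᶜ := (hG g).mpr ⟨g, hg, specializes_rfl⟩
      have hζg : ζ ⤳ g := specializes_iff_mem_closure.mpr hgC.1
      by_cases heq : f g = f ζ
      · have hlt : sdim (f ≫ q) g < sdim (f ≫ q) ζ :=
          sdim_lt_of_specializes (f ≫ q) hζg fun e => hgC.2 (e ▸ hζU)
        obtain ⟨V, hgV, hV⟩ := ih _ hlt g rfl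
        refine ⟨V, heq ▸ hgV, fun x hx hgx => ?_⟩
        have := hV x hx hgx
        rw [heq] at this
        omega
      · refine ⟨⟨(closure {f g})ᶜ, isClosed_closure.isOpen_compl⟩, fun hmem => ?_, fun x hx hgx => ?_⟩
        · exact heq ((specializes_iff_mem_closure.mpr hmem).antisymm (hζg.map f.continuous)).eq
        · exact (hx (specializes_iff_mem_closure.mp (hgx.map f.continuous))).elim
    choose V hV1 hV2 using hstep
    refine ⟨⟨⋂ g : G, (V g.1 g.2 : Set Y), isOpen_iInter_of_finite fun g => (V g.1 g.2).2⟩,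
      Set.mem_iInter.mpr fun g => hV1 g.1 g.2, fun x hx hζx => ?_⟩
    by_cases hxU : x ∈ U
    · exact hU x hxU hζx
    · obtain ⟨g, hg, hgx⟩ := (hG x).mp ⟨specializes_iff_mem_closure.mp hζx, hxU⟩
      exact hV2 g hg x (Set.mem_iInter.mp hx ⟨g, hg⟩) hgx

omit [LocallyOfFiniteType q] [LocallyOfFiniteType f] in
/-- Cardinal form of `sdim_comp_of_surjective`. -/
theorem trdeg_comp_of_surjective {Z W : Scheme.{u}} (e : W ⟶ Spec (CommRingCat.of k)) (g : Z ⟶ W)
    [SurjectiveOnStalks g] (z : Z) :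
    letI := resAlg e (g z)
    letI := resAlg (g ≫ e) z
    Algebra.trdeg k (Z.residueField z) = Algebra.trdeg k (W.residueField (g z)) := by
  letI := resAlg e (g z)
  letI := resAlg (g ≫ e) z
  have hsurj : Function.Surjective (g.residueFieldMap z) := by
    intro b
    obtain ⟨b, rfl⟩ := Scheme.residue_surjective Z z b
    obtain ⟨a, rfl⟩ := g.stalkMap_surjective z b
    exact ⟨W.residue _ a, ConcreteCategory.congr_hom (Scheme.residue_residueFieldMap g z) a⟩
  let e' : W.residueField (g z) ≃ₐ[k] Z.residueField z :=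
    AlgEquiv.ofBijective
      { (g.residueFieldMap z).hom with commutes' := fun c => (RingHom.congr_fun (baseToRes_comp e g z) c).symm }
      ⟨(g.residueFieldMap z).hom.injective, hsurj⟩
  exact e'.trdeg_eq.symm

omit [LocallyOfFiniteType q] [LocallyOfFiniteType f] in
theorem baseToRes_id_surjective {K : Type u} [Field K] (pt : Spec (CommRingCat.of K)) :
    Function.Surjective (baseToRes (𝟙 (Spec (CommRingCat.of K))) pt) := by
  intro z
  obtain ⟨a, b, rfl⟩ := exists_evaluation_eq_div (isAffineOpen_top _) pt trivial z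
  obtain ⟨a, rfl⟩ := (Scheme.ΓSpecIso (CommRingCat.of K)).symm.commRingCatIsoToRingEquiv.surjective a
  obtain ⟨b, rfl⟩ := (Scheme.ΓSpecIso (CommRingCat.of K)).symm.commRingCatIsoToRingEquiv.surjective b
  refine ⟨a / b, ?_⟩
  rw [map_div₀]
  rfl

omit [LocallyOfFiniteType q] [LocallyOfFiniteType f] in
/-- For a scheme over a field `K`, `sdim` is the transcendence degree over the residue field of the base point. -/
theorem trdeg_over_pt {Z : Scheme.{u}} {K : Type u} [Field K] (h : Z ⟶ Spec (CommRingCat.of K))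
    [LocallyOfFiniteType h] (z : Z) :
    letI := (h.residueFieldMap z).hom.toAlgebra
    Algebra.trdeg ((Spec (CommRingCat.of K)).residueField (h z)) (Z.residueField z) = (sdim h z : Cardinal) := by
  letI := (h.residueFieldMap z).hom.toAlgebra
  letI := resAlg h z
  letI := resAlg (𝟙 (Spec (CommRingCat.of K))) (h z)
  haveI : IsScalarTower K ((Spec (CommRingCat.of K)).residueField (h z)) (Z.residueField z) :=
    IsScalarTower.of_algebraMap_eq' (by
      have := baseToRes_comp (𝟙 (Spec (CommRingCat.of K))) h z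
      simp only [Category.comp_id] at this
      exact this)
  haveI : Algebra.IsAlgebraic K ((Spec (CommRingCat.of K)).residueField (h z)) := ⟨fun w => by
    obtain ⟨c, rfl⟩ := baseToRes_id_surjective (h z) w
    exact isAlgebraic_algebraMap c⟩
  rw [← trdeg_residueField h z, ← trdeg_add_eq K ((Spec (CommRingCat.of K)).residueField (h z)) (A := Z.residueField z),
    trdeg_eq_zero (R := K) (A := (Spec (CommRingCat.of K)).residueField (h z)), zero_add]

omit [LocallyOfFiniteType q] [LocallyOfFiniteType f] in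
theorem sdim_spec_comp {Z : Scheme.{u}} {K : Type u} [Field K]
    (e : Spec (CommRingCat.of K) ⟶ Spec (CommRingCat.of k)) (h : Z ⟶ Spec (CommRingCat.of K))
    [LocallyOfFiniteType h] (z : Z) (n : ℕ)
    (hn : letI := resAlg e (h z); Algebra.trdeg k ((Spec (CommRingCat.of K)).residueField (h z)) = (n : Cardinal)) :
    sdim (h ≫ e) z = n + sdim h z := by
  letI := resAlg (h ≫ e) z
  have h1 := trdeg_comp e h z
  rw [trdeg_over_pt h z, hn, ← Nat.cast_add] at h1
  rw [show sdim (h ≫ e) z = tdeg k (Z.residueField z) from rfl, tdeg, h1, Cardinal.toNat_natCast]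

/-- Additivity on the scheme-theoretic fibre. -/
theorem sdim_fiber (y : Y) (z : f.fiber y) :
    sdim (f ≫ q) (f.fiberι y z) = sdim q y + sdim (f.fiberToSpecResidueField y) z := by
  let h : f.fiber y ⟶ Spec (CommRingCat.of ↑(Y.residueField y)) := f.fiberToSpecResidueField y
  let e : Spec (CommRingCat.of ↑(Y.residueField y)) ⟶ Spec (CommRingCat.of k) := Y.fromSpecResidueField y ≫ q
  haveI hlft : LocallyOfFiniteType h := MorphismProperty.pullback_snd _ _ inferInstance
  have hpt : Y.fromSpecResidueField y (f.fiberToSpecResidueField y z) = y :=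
    Scheme.fromSpecResidueField_apply y _
  have h3 := trdeg_comp_of_surjective q (Y.fromSpecResidueField y) (f.fiberToSpecResidueField y z)
  rw [trdeg_residueField q] at h3
  have he : f.fiberι y ≫ f ≫ q = f.fiberToSpecResidueField y ≫ Y.fromSpecResidueField y ≫ q := by
    rw [← Category.assoc, Scheme.Hom.fiber_fac, Category.assoc]
  have h4 : sdim (f ≫ q) (f.fiberι y z) = sdim (h ≫ e) z :=
    (sdim_comp_of_surjective (f ≫ q) (f.fiberι y) z).symm.trans (congrArg (fun g => sdim g z) he)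
  rw [h4]
  refine (sdim_spec_comp e h z _ h3).trans ?_
  rw [hpt]
  rfl

/-- Dimension of a set-theoretic fibre. -/
theorem dim_preimage_singleton (y : Y) :

    topologicalKrullDim (f ⁻¹' {y} : Set X) =
      ⨆ z : f.fiber y, ((sdim (f.fiberToSpecResidueField y) z : ℕ) : WithBot ℕ∞) := by
  rw [← (f.fiberHomeo y).isHomeomorph.topologicalKrullDim_eq,
    @dim_eq_iSup_sdim _ _ _ (f.fiberToSpecResidueField y)
      (MorphismProperty.pullback_snd _ _ inferInstance)]

theorem le_dim_preimage_singleton (x : X) :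
    ((sdim (f ≫ q) x - sdim q (f x) : ℕ) : WithBot ℕ∞) ≤ topologicalKrullDim (f ⁻¹' {f x} : Set X) := by
  rw [dim_preimage_singleton]
  refine le_trans (le_of_eq ?_) (le_iSup _ ((f.fiberHomeo (f x)).symm ⟨x, rfl⟩))
  have := sdim_fiber q f (f x) ((f.fiberHomeo (f x)).symm ⟨x, rfl⟩)
  rw [Scheme.Hom.fiberι_fiberHomeo_symm] at this
  congr 1
  exact Nat.sub_eq_of_eq_add' this

include q in
theorem dim_preimage_singleton_le_iff (y : Y) (r : ℕ) :
    topologicalKrullDim (f ⁻¹' {y} : Set X) ≤ (r : WithBot ℕ∞) ↔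
      ∀ x, f x = y → sdim (f ≫ q) x ≤ r + sdim q y := by
  constructor
  · rintro h x rfl
    have := (le_dim_preimage_singleton q f x).trans h
    have : sdim (f ≫ q) x - sdim q (f x) ≤ r := by exact_mod_cast this
    omega
  · intro h
    rw [dim_preimage_singleton]
    refine iSup_le fun z => ?_
    have hz : f (f.fiberι y z) = y := by
      have hm : f.fiberι y z ∈ Set.range (f.fiberι y) := ⟨z, rfl⟩
      rwa [f.range_fiberι] at hm
    have := h _ hz
    rw [sdim_fiber q f y z] at this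
    exact_mod_cast (by omega : sdim (f.fiberToSpecResidueField y) z ≤ r)

omit [LocallyOfFiniteType f] in
include q in
theorem isClosed_singleton_image [LocallyOfFiniteType f] {x : X} (hx : IsClosed ({x} : Set X)) :
    IsClosed ({f x} : Set Y) := by
  rw [← sdim_eq_zero_iff_isClosed q]
  have := sdim_le_comp q f x
  rw [(sdim_eq_zero_iff_isClosed (f ≫ q) x).mpr hx] at this
  exact Nat.le_zero.mp this

end Groth.Agent.VarDim
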