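import Mathlib.RingTheory.KrullDimension.Polynomial
import Mathlib.RingTheory.KrullDimension.Field
import Mathlib.RingTheory.KrullDimension.NonZeroDivisors
import Mathlib.RingTheory.NoetherNormalization
import Mathlib.RingTheory.Ideal.HasGoingUp
import Mathlib.RingTheory.Ideal.GoingDown
import Mathlib.RingTheory.Ideal.GoingUp
import Mathlib.RingTheory.IntegralClosure.GoingDown
import Mathlib.RingTheory.AlgebraicIndependent.TranscendenceBasis
import Mathlib.RingTheory.AlgebraicIndependent.Transcendental
import Mathlib.RingTheory.Polynomial.UniqueFactorization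
import Mathlib.RingTheory.Polynomial.Basic
import Mathlib.RingTheory.UniqueFactorizationDomain.GCDMonoid
import Mathlib.RingTheory.UniqueFactorizationDomain.Ideal
import Mathlib.Algebra.MvPolynomial.NoZeroDivisors
import Mathlib.RingTheory.Localization.Algebra
import Mathlib.RingTheory.Polynomial.RationalRoot

/-!
Dimension theory of finitely generated algebras over a field.

* `ringKrullDim_eq_tdeg`: a finitely generated domain has dimension its transcendence degree;
* `height_add_coheight`: height and coheight of every prime add up to the dimension;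
* `coheight_covBy`: immediate specializations drop the coheight by exactly one.
-/

universe u

namespace Groth.Agent.VarDim

open Order

/-- The transcendence degree as a natural number. -/
noncomputable def tdeg (k A : Type u) [CommRing k] [CommRing A] [Algebra k A] : ℕ :=
  (Algebra.trdeg k A).toNat

section Order

variable {α β : Type*} [PartialOrder α] [Preorder β]

theorem height_add_one_le_of_strictMono (f : α → β) (hf : StrictMono f) (b : β) (hb : ∀ a, b < f a)
    (a : α) : height a + 1 ≤ height (f a) := by
  rw [← height_coe_withBot]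
  refine height_le_height_apply_of_strictMono (fun x : WithBot α => x.elim b f) ?_ (a : WithBot α)
  intro x y hxy
  cases y with
  | bot => exact (not_lt_bot hxy).elim
  | coe y =>
    cases x with
    | bot => exact hb y
    | coe x => exact hf (WithBot.coe_lt_coe.mp hxy)

theorem height_add_coheight_le_krullDim (a : β) :
    ((height a + coheight a : ℕ∞) : WithBot ℕ∞) ≤ krullDim β := by
  haveI : Nonempty β := ⟨a⟩
  rw [krullDim_eq_iSup_height_add_coheight_of_nonempty]
  exact WithBot.coe_le_coe.mpr (le_iSup (fun a : β => height a + coheight a) a)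

end Order

section Integral

variable {R S : Type*} [CommRing R] [CommRing S] [Algebra R S] [Algebra.IsIntegral R S]

theorem strictMono_comap_of_isIntegral : StrictMono (PrimeSpectrum.comap (algebraMap R S)) := by
  intro p q hpq
  obtain ⟨x, hxq, hxp⟩ := SetLike.exists_of_lt (show p.asIdeal < q.asIdeal from hpq)
  exact Ideal.comap_lt_comap_of_integral_mem_sdiff (le_of_lt hpq) ⟨hxq, hxp⟩
    (Algebra.IsIntegral.isIntegral x)

theorem coheight_comap_eq (P : PrimeSpectrum S) :
    coheight (PrimeSpectrum.comap (algebraMap R S) P) = coheight P := by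
  haveI : Algebra.HasGoingUp R S := inferInstance
  refine le_antisymm (coheight_le fun l hl => ?_)
    (coheight_le_coheight_apply_of_strictMono _ strictMono_comap_of_isIntegral P)
  haveI : P.asIdeal.LiesOver l.head.asIdeal := ⟨by rw [hl]; rfl⟩
  obtain ⟨L, hlen, hhead, -⟩ := Ideal.exists_ltSeries_of_hasGoingUp l P.asIdeal
  rw [← hlen]
  exact length_le_coheight hhead.ge

theorem height_comap_eq [Algebra.HasGoingDown R S] (P : PrimeSpectrum S) :
    height (PrimeSpectrum.comap (algebraMap R S) P) = height P := by
  refine le_antisymm (height_le fun l hl => ?_)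
    (height_le_height_apply_of_strictMono _ strictMono_comap_of_isIntegral P)
  haveI : P.asIdeal.LiesOver l.last.asIdeal := ⟨by rw [hl]; rfl⟩
  obtain ⟨L, hlen, hlast, -⟩ := Ideal.exists_ltSeries_of_hasGoingDown l P.asIdeal
  rw [← hlen]
  exact length_le_height hlast.le

theorem ringKrullDim_eq_of_isIntegral (hinj : Function.Injective (algebraMap R S)) :
    ringKrullDim S = ringKrullDim R := by
  refine le_antisymm (krullDim_le_of_strictMono _ strictMono_comap_of_isIntegral) ?_
  rw [ringKrullDim, krullDim_eq_iSup_coheight]
  refine iSup_le fun p => ?_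
  obtain ⟨P, hP, hPp⟩ := Ideal.exists_ideal_over_prime_of_isIntegral (S := S) p.asIdeal (⊥ : Ideal S)
    (by simp [← RingHom.ker_eq_comap_bot, (RingHom.injective_iff_ker_eq_bot _).mp hinj])
  have : p = PrimeSpectrum.comap (algebraMap R S) ⟨P, hPp.1⟩ := PrimeSpectrum.ext hPp.2.symm
  rw [this, coheight_comap_eq]
  exact coheight_le_krullDim _

end Integral

section Field

variable (k : Type u) [Field k]

theorem trdeg_mvPolynomial (s : ℕ) : Algebra.trdeg k (MvPolynomial (Fin s) k) = (s : Cardinal) := by
  rw [MvPolynomial.trdeg_of_isDomain]; simp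

theorem ringKrullDim_mvPolynomial (s : ℕ) :
    ringKrullDim (MvPolynomial (Fin s) k) = (s : WithBot ℕ∞) := by
  rw [MvPolynomial.ringKrullDim_of_isNoetherianRing, ringKrullDim_eq_zero_of_field]; simp

variable (A : Type u) [CommRing A] [IsDomain A] [Algebra k A] [Algebra.FiniteType k A]

/-- Noether normalization together with the equalities of dimension and transcendence degree. -/
theorem exists_noether_dim : ∃ (s : ℕ) (g : MvPolynomial (Fin s) k →ₐ[k] A),
    Function.Injective g ∧ g.IsIntegral ∧ ringKrullDim A = (s : WithBot ℕ∞) ∧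
      Algebra.trdeg k A = (s : Cardinal) := by
  obtain ⟨s, g, hg, hgi⟩ := exists_integral_inj_algHom_of_fg k A
  refine ⟨s, g, hg, hgi, ?_⟩
  letI : Algebra (MvPolynomial (Fin s) k) A := g.toRingHom.toAlgebra
  haveI : IsScalarTower k (MvPolynomial (Fin s) k) A := IsScalarTower.of_algHom g
  haveI : Algebra.IsIntegral (MvPolynomial (Fin s) k) A := ⟨hgi⟩
  haveI : FaithfulSMul (MvPolynomial (Fin s) k) A := (faithfulSMul_iff_algebraMap_injective _ _).mpr hg
  refine ⟨(ringKrullDim_eq_of_isIntegral hg).trans (ringKrullDim_mvPolynomial k s), ?_⟩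
  rw [← trdeg_add_eq k (MvPolynomial (Fin s) k), trdeg_mvPolynomial k s,
    trdeg_eq_zero, add_zero]

theorem ringKrullDim_eq_tdeg : ringKrullDim A = (tdeg k A : WithBot ℕ∞) := by
  obtain ⟨s, g, -, -, hdim, htr⟩ := exists_noether_dim k A
  rw [hdim, tdeg, htr, Cardinal.toNat_natCast]

theorem trdeg_eq_tdeg : Algebra.trdeg k A = (tdeg k A : Cardinal) := by
  obtain ⟨s, g, -, -, -, htr⟩ := exists_noether_dim k A
  rw [tdeg, htr, Cardinal.toNat_natCast]

/-- The transfer from a Noether normalization. -/
theorem height_add_coheight_transfer (s : ℕ)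
    (hs : ∀ q : PrimeSpectrum (MvPolynomial (Fin s) k), height q + coheight q = (s : ℕ∞))
    (g : MvPolynomial (Fin s) k →ₐ[k] A) (hg : Function.Injective g) (hgi : g.IsIntegral)
    (p : PrimeSpectrum A) : height p + coheight p = (s : ℕ∞) := by
  letI : Algebra (MvPolynomial (Fin s) k) A := g.toRingHom.toAlgebra
  haveI : Algebra.IsIntegral (MvPolynomial (Fin s) k) A := ⟨hgi⟩
  haveI : FaithfulSMul (MvPolynomial (Fin s) k) A := (faithfulSMul_iff_algebraMap_injective _ _).mpr hg
  rw [← height_comap_eq (R := MvPolynomial (Fin s) k) p, ← coheight_comap_eq (R := MvPolynomial (Fin s) k) p]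
  exact hs _

theorem ringKrullDim_quotient_span_irreducible {s : ℕ} (f : MvPolynomial (Fin (s + 1)) k)
    (hf : Irreducible f) [(Ideal.span {f}).IsPrime] :
    ringKrullDim (MvPolynomial (Fin (s + 1)) k ⧸ Ideal.span {f}) = (s : WithBot ℕ∞) := by
  apply le_antisymm
  · have h := ringKrullDim_quotient_succ_le_of_nonZeroDivisor
      (mem_nonZeroDivisors_of_ne_zero hf.ne_zero : f ∈ nonZeroDivisors _)
    rw [ringKrullDim_mvPolynomial k (s + 1), ringKrullDim_eq_tdeg k] at h
    rw [ringKrullDim_eq_tdeg k]
    have h' : tdeg k (MvPolynomial (Fin (s + 1)) k ⧸ Ideal.span {f}) + 1 ≤ s + 1 := by exact_mod_cast h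
    exact_mod_cast Nat.le_of_add_le_add_right h'
  · obtain ⟨i, hi⟩ : ∃ i, MvPolynomial.degreeOf i f ≠ 0 := by
      by_contra! hall
      have htot : f.totalDegree = 0 := by
        rw [MvPolynomial.totalDegree_eq_zero_iff]
        intro m hm i
        have := MvPolynomial.monomial_le_degreeOf i hm
        rw [hall i] at this
        omega
      obtain hC := MvPolynomial.totalDegree_eq_zero_iff_eq_C.mp htot
      apply hf.not_isUnit
      rw [hC]
      refine IsUnit.map MvPolynomial.C (isUnit_iff_ne_zero.mpr fun h0 => hf.ne_zero ?_)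
      rw [hC, h0, map_zero]
    let φ : MvPolynomial (Fin s) k →ₐ[k] MvPolynomial (Fin (s + 1)) k ⧸ Ideal.span {f} :=
      (Ideal.Quotient.mkₐ k _).comp (MvPolynomial.rename i.succAbove)
    have hφ : Function.Injective φ := by
      rw [injective_iff_map_eq_zero]
      intro g hg
      by_contra hg0
      have hg' : MvPolynomial.rename i.succAbove g ∈ Ideal.span {f} := Ideal.Quotient.eq_zero_iff_mem.mp hg
      obtain ⟨c, hc⟩ := Ideal.mem_span_singleton'.mp hg'
      have hr0 : MvPolynomial.rename i.succAbove g ≠ 0 := fun h =>
        hg0 (MvPolynomial.rename_injective _ Fin.succAbove_right_injective (h.trans (map_zero _).symm))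
      have hc0 : c ≠ 0 := by rintro rfl; exact hr0 (by rw [← hc, zero_mul])
      have hdeg : MvPolynomial.degreeOf i (MvPolynomial.rename i.succAbove g) = 0 := by
        rw [MvPolynomial.degreeOf_def, Multiset.count_eq_zero]
        intro hmem
        rw [MvPolynomial.degrees_rename_of_injective Fin.succAbove_right_injective, Multiset.mem_map] at hmem
        obtain ⟨j, -, hj⟩ := hmem
        exact Fin.succAbove_ne i j hj
      rw [← hc, MvPolynomial.degreeOf_mul_eq hc0 hf.ne_zero] at hdeg
      omega
    rw [ringKrullDim_eq_tdeg k]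
    have h := trdeg_le_of_injective φ hφ
    rw [trdeg_mvPolynomial, trdeg_eq_tdeg k, Nat.cast_le] at h
    exact_mod_cast h

theorem height_add_coheight_mvPolynomial : ∀ (s : ℕ) (q : PrimeSpectrum (MvPolynomial (Fin s) k)),
    height q + coheight q = (s : ℕ∞)
  | s, q => by
    have hle : height q + coheight q ≤ (s : ℕ∞) := by
      have := height_add_coheight_le_krullDim q
      rw [← ringKrullDim, ringKrullDim_mvPolynomial] at this
      exact WithBot.coe_le_coe.mp this
    refine le_antisymm hle ?_
    by_cases hq : q.asIdeal = ⊥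
    · have hqb : q = ⊥ := PrimeSpectrum.ext hq
      subst hqb
      have hco : ((coheight (⊥ : PrimeSpectrum (MvPolynomial (Fin s) k)) : ℕ∞) : WithBot ℕ∞) = (s : WithBot ℕ∞) :=
        coheight_bot_eq_krullDim.trans (ringKrullDim_mvPolynomial k s)
      rw [height_bot, zero_add]
      exact le_of_eq (WithBot.coe_injective hco).symm
    · cases s with
      | zero => exact zero_le
      | succ s =>
        obtain ⟨f, hfq, hf⟩ := Ideal.IsPrime.exists_mem_prime_of_ne_bot q.2 hq
        haveI : (Ideal.span {f}).IsPrime := (Ideal.span_singleton_prime hf.ne_zero).mpr hf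
        obtain ⟨s', g, hg, hgi, hdim, -⟩ :=
          exists_noether_dim k (MvPolynomial (Fin (s + 1)) k ⧸ Ideal.span {f})
        have hss : s' = s := by
          have := hdim.symm.trans (ringKrullDim_quotient_span_irreducible k f hf.irreducible)
          exact_mod_cast this
        subst hss
        have hker : Ideal.span {f} ≤ q.asIdeal := by simpa using hfq
        let m := Ideal.Quotient.mk (Ideal.span {f})
        have hcm : (q.asIdeal.map m).comap m = q.asIdeal := by
          rw [Ideal.comap_map_of_surjective m Ideal.Quotient.mk_surjective, ← RingHom.ker_eq_comap_bot,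
            Ideal.mk_ker, sup_eq_left.mpr hker]
        let q' : PrimeSpectrum (MvPolynomial (Fin (s' + 1)) k ⧸ Ideal.span {f}) :=
          ⟨q.asIdeal.map m, Ideal.map_isPrime_of_surjective Ideal.Quotient.mk_surjective (by rwa [Ideal.mk_ker])⟩
        have hq' : PrimeSpectrum.comap m q' = q := PrimeSpectrum.ext hcm
        have key := height_add_coheight_transfer k _ s' (height_add_coheight_mvPolynomial s') g hg hgi q'
        have hsm := RingHom.strictMono_comap_of_surjective (f := m) Ideal.Quotient.mk_surjective
        have h1 : height q' + 1 ≤ height q := by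
          rw [← hq']
          refine height_add_one_le_of_strictMono _ hsm ⊥ (fun a => ?_) q'
          refine lt_of_le_of_ne bot_le fun h => hf.ne_zero ?_
          have hmem : f ∈ (PrimeSpectrum.comap m a).asIdeal := by
            change m f ∈ a.asIdeal
            rw [Ideal.Quotient.eq_zero_iff_mem.mpr (Ideal.mem_span_singleton_self f)]
            exact zero_mem _
          rw [← h] at hmem
          exact hmem
        have h2 : coheight q' ≤ coheight q := by
          have := coheight_le_coheight_apply_of_strictMono _ hsm q'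
          rwa [hq'] at this
        calc ((s' + 1 : ℕ) : ℕ∞) = height q' + 1 + coheight q' := by
              rw [add_right_comm, key]; simp
          _ ≤ height q + coheight q := add_le_add h1 h2

theorem height_add_coheight_nat (p : PrimeSpectrum A) : height p + coheight p = (tdeg k A : ℕ∞) := by
  obtain ⟨s, g, hg, hgi, -, htr⟩ := exists_noether_dim k A
  rw [tdeg, htr, Cardinal.toNat_natCast]
  exact height_add_coheight_transfer k A s (height_add_coheight_mvPolynomial k s) g hg hgi p

include k in
theorem height_add_coheight (p : PrimeSpectrum A) :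
    ((height p + coheight p : ℕ∞) : WithBot ℕ∞) = ringKrullDim A := by
  rw [height_add_coheight_nat k A p, ringKrullDim_eq_tdeg k A]; rfl

omit [IsDomain A] in
theorem coheight_eq_tdeg (p : PrimeSpectrum A) :
    coheight p = (tdeg k (A ⧸ p.asIdeal) : ℕ∞) := by
  apply WithBot.coe_injective
  rw [coheight_eq_krullDim_Ici]
  refine Eq.trans ?_ (ringKrullDim_eq_tdeg k (A ⧸ p.asIdeal))
  rw [ringKrullDim_quotient]
  exact Order.krullDim_eq_of_orderIso (OrderIso.setCongr _ _ (by ext q; rfl))

omit [IsDomain A] in
include k in
theorem coheight_lt_top' (p : PrimeSpectrum A) : coheight p < ⊤ := by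
  rw [coheight_eq_tdeg k A p]; exact ENat.natCast_lt_top _

omit [IsDomain A] in
include k in
/-- An immediate specialization drops the coheight by exactly one. -/
theorem coheight_covBy {p q : PrimeSpectrum A} (h : p ⋖ q) : coheight p = coheight q + 1 := by
  let m := Ideal.Quotient.mk p.asIdeal
  let q' : PrimeSpectrum (A ⧸ p.asIdeal) :=
    ⟨q.asIdeal.map m, Ideal.map_isPrime_of_surjective Ideal.Quotient.mk_surjective (by rw [Ideal.mk_ker]; exact h.le)⟩
  have hq' : PrimeSpectrum.comap m q' = q := PrimeSpectrum.ext (by
    change (q.asIdeal.map m).comap m = q.asIdeal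
    rw [Ideal.comap_map_of_surjective m Ideal.Quotient.mk_surjective, ← RingHom.ker_eq_comap_bot,
      Ideal.mk_ker, sup_eq_left.mpr h.le])
  have hsm := RingHom.strictMono_comap_of_surjective (f := m) Ideal.Quotient.mk_surjective
  have hb : PrimeSpectrum.comap m (⊥ : PrimeSpectrum (A ⧸ p.asIdeal)) = p :=
    PrimeSpectrum.ext (by
      change (⊥ : Ideal (A ⧸ p.asIdeal)).comap m = p.asIdeal
      rw [← RingHom.ker_eq_comap_bot, Ideal.mk_ker])
  have hh : height q' ≤ 1 := by
    refine height_le_coe_iff (n := 1) |>.mpr fun y hy => ?_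
    have hy0 : y = ⊥ := by
      by_contra hne
      refine h.2 (c := PrimeSpectrum.comap m y) ?_ (by rw [← hq']; exact hsm hy)
      calc p = PrimeSpectrum.comap m ⊥ := hb.symm
        _ < PrimeSpectrum.comap m y := hsm (bot_lt_iff_ne_bot.mpr hne)
    rw [hy0, height_bot]; exact Nat.cast_pos.mpr one_pos
  have hco : coheight q' ≤ coheight q := by
    have := coheight_le_coheight_apply_of_strictMono _ hsm q'
    rwa [hq'] at this
  have key := height_add_coheight_nat k (A ⧸ p.asIdeal) q'
  rw [← coheight_eq_tdeg k A p] at key
  refine le_antisymm ?_ (coheight_add_one_le h.lt)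
  calc coheight p = height q' + coheight q' := key.symm
    _ ≤ 1 + coheight q := add_le_add hh hco
    _ = coheight q + 1 := add_comm _ _

end Field

end Groth.Agent.VarDim
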