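import Mathlib.AlgebraicGeometry.FunctionField
import Mathlib.RingTheory.IntegralClosure.IntegrallyClosed
import Mathlib.RingTheory.IntegralClosure.IsIntegralClosure.Basic

/-!
Sections of integral schemes with integrally closed stalks.

* `exists_section_of_integral`: a rational function integral over the sections on `W` is a section on `W`;
* `isIntegrallyClosed_sections`: sections over a nonempty open form an integrally closed domain.
-/

universe u

namespace Groth.Agent.VarDim

open CategoryTheory AlgebraicGeometry TopologicalSpace Opposite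

variable {X : Scheme.{u}} [IsIntegral X]

theorem germ_functionField_eq (W : X.Opens) [Nonempty W] (x : X) (hx : x ∈ W) (a : Γ(X, W)) :
    algebraMap (X.presheaf.stalk x) X.functionField (X.presheaf.germ W x hx a) =
      X.germToFunctionField W a := by
  change (X.presheaf.stalkSpecializes ((genericPoint_spec X).specializes trivial)).hom (X.presheaf.germ W x hx a) = _
  rw [← CommRingCat.comp_apply, TopCat.Presheaf.germ_stalkSpecializes]

theorem exists_section_of_forall_stalk (W : X.Opens) [Nonempty W] (z : X.functionField)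
    (hz : ∀ x ∈ W, z ∈ (algebraMap (X.presheaf.stalk x) X.functionField).range) :
    ∃ a : Γ(X, W), X.germToFunctionField W a = z := by
  classical
  have hloc : ∀ x : W, ∃ (V : X.Opens) (_ : (x : X) ∈ V) (hV : V ≤ W) (a : Γ(X, V)),
      ∀ (h : Nonempty V), X.germToFunctionField V a = z := by
    intro x
    obtain ⟨w, hw⟩ := hz x.1 x.2
    obtain ⟨V, hxV, a, ha⟩ := X.presheaf.exists_germ_eq w
    refine ⟨V ⊓ W, ⟨hxV, x.2⟩, inf_le_right, X.presheaf.map (homOfLE inf_le_left).op a, fun h => ?_⟩
    rw [← germ_functionField_eq (V ⊓ W) x.1 ⟨hxV, x.2⟩, TopCat.Presheaf.germ_res_apply, ha, hw]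
  choose V hxV hVW a ha using hloc
  obtain ⟨s, hs, -⟩ := X.sheaf.existsUnique_gluing' V W (fun x => homOfLE (hVW x))
    (fun y hy => Opens.mem_iSup.mpr ⟨⟨y, hy⟩, hxV _⟩) a (fun i j => by
      haveI : Nonempty (V i) := ⟨⟨_, hxV i⟩⟩
      haveI : Nonempty (V j) := ⟨⟨_, hxV j⟩⟩
      haveI : Nonempty (V i ⊓ V j : X.Opens) := by
        obtain ⟨y, hy⟩ := nonempty_preirreducible_inter (V i).2 (V j).2 ⟨_, hxV i⟩ ⟨_, hxV j⟩
        exact ⟨⟨y, hy⟩⟩
      apply X.germToFunctionField_injective (V i ⊓ V j)
      have e1 : X.germToFunctionField (V i ⊓ V j) (X.presheaf.map (homOfLE inf_le_left).op (a i)) =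
          X.germToFunctionField (V i) (a i) :=
        TopCat.Presheaf.germ_res_apply X.presheaf _ _ _ _
      have e2 : X.germToFunctionField (V i ⊓ V j) (X.presheaf.map (homOfLE inf_le_right).op (a j)) =
          X.germToFunctionField (V j) (a j) :=
        TopCat.Presheaf.germ_res_apply X.presheaf _ _ _ _
      exact e1.trans (((ha i inferInstance).trans (ha j inferInstance).symm).trans e2.symm))
  obtain ⟨x⟩ := (inferInstance : Nonempty W)
  haveI : Nonempty (V x) := ⟨⟨_, hxV x⟩⟩
  refine ⟨s, ?_⟩
  have e : X.germToFunctionField (V x) (X.presheaf.map (homOfLE (hVW x)).op s) = X.germToFunctionField W s :=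
    TopCat.Presheaf.germ_res_apply X.presheaf _ _ _ _
  rw [← e, ← ha x inferInstance]
  exact congrArg (X.germToFunctionField (V x)) (hs x)

theorem exists_section_of_integral (hX : ∀ x : X, IsIntegrallyClosed (X.presheaf.stalk x))
    (W : X.Opens) [Nonempty W] (z : X.functionField) (hz : (X.germToFunctionField W).hom.IsIntegralElem z) :
    ∃ a : Γ(X, W), X.germToFunctionField W a = z := by
  refine exists_section_of_forall_stalk W z fun x hx => ?_
  haveI := hX x
  obtain ⟨p, hp, hp0⟩ := hz
  have hint : IsIntegral (X.presheaf.stalk x) z := by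
    refine ⟨p.map (X.presheaf.germ W x hx).hom, hp.map _, ?_⟩
    rw [Polynomial.eval₂_map]
    rw [show (algebraMap (X.presheaf.stalk x) X.functionField).comp (X.presheaf.germ W x hx).hom =
      (X.germToFunctionField W).hom from RingHom.ext fun a => germ_functionField_eq W x hx a]
    exact hp0
  obtain ⟨w, hw⟩ := IsIntegrallyClosed.isIntegral_iff.mp hint
  exact ⟨w, hw⟩

theorem isIntegrallyClosed_sections (hX : ∀ x : X, IsIntegrallyClosed (X.presheaf.stalk x))
    (W : X.Opens) [Nonempty W] : IsIntegrallyClosed Γ(X, W) := by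
  refine (isIntegrallyClosed_iff (FractionRing Γ(X, W))).mpr fun {z} hz => ?_
  let φ : FractionRing Γ(X, W) →+* X.functionField :=
    IsFractionRing.lift (g := (X.germToFunctionField W).hom) (X.germToFunctionField_injective W)
  have hφ : φ.comp (algebraMap Γ(X, W) (FractionRing Γ(X, W))) = (X.germToFunctionField W).hom :=
    RingHom.ext fun a => IsFractionRing.lift_algebraMap (X.germToFunctionField_injective W) a
  obtain ⟨p, hp, hp0⟩ := hz
  obtain ⟨a, ha⟩ := exists_section_of_integral hX W (φ z)
    ⟨p, hp, by rw [← hφ, ← Polynomial.hom_eval₂, hp0, map_zero]⟩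
  refine ⟨a, φ.injective ?_⟩
  rw [← ha]
  exact RingHom.congr_fun hφ a

end Groth.Agent.VarDim
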