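import Groth.Agent.Lib.VarDim.Fibration
import Mathlib.AlgebraicGeometry.Morphisms.Flat
import Mathlib.AlgebraicGeometry.Morphisms.UniversallyOpen

/-!
Flat base change of `𝒪_Y ≅ f_* 𝒪_X` for quasi-compact quasi-separated `f`.
-/

universe u

namespace Groth.Agent.VarDim.Fibration

open CategoryTheory CategoryTheory.Limits AlgebraicGeometry TopologicalSpace Opposite

theorem app_bijective_of_basis {X Y : Scheme.{u}} (f : X ⟶ Y)
    (h : ∀ (y : Y) (V : Y.Opens), y ∈ V → ∃ D : Y.Opens, y ∈ D ∧ D ≤ V ∧ Function.Bijective (f.app D))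
    (V : Y.Opens) : Function.Bijective (f.app V) := by
  classical
  have nat : ∀ {A B : Y.Opens} (e : A ≤ B) (s : Γ(Y, B)),
      f.app A (Y.presheaf.map (homOfLE e).op s) = X.presheaf.map (homOfLE (f.preimage_mono e)).op (f.app B s) :=
    fun e s => ConcreteCategory.congr_hom (f.naturality (homOfLE e).op) s
  have hinj : ∀ W : Y.Opens, Function.Injective (f.app W) := by
    intro W
    refine (injective_iff_map_eq_zero (f.app W).hom).mpr fun s hs => ?_
    choose D hD hDW hDb using fun y : W => h y.1 W y.2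
    refine Y.sheaf.eq_of_locally_eq' D W (fun y => homOfLE (hDW y))
      (fun y hy => Opens.mem_iSup.mpr ⟨⟨y, hy⟩, hD _⟩) s 0 fun y => (hDb y).1 ?_
    change f.app (D y) (Y.presheaf.map (homOfLE (hDW y)).op s) = f.app (D y) (Y.presheaf.map (homOfLE (hDW y)).op 0)
    rw [nat, hs, map_zero, map_zero, map_zero]
  refine ⟨hinj V, fun t => ?_⟩
  choose D hD hDV hDb using fun y : V => h y.1 V y.2
  choose s hs using fun y => (hDb y).2 (X.presheaf.map (homOfLE (f.preimage_mono (hDV y))).op t)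
  obtain ⟨r, hr, -⟩ := Y.sheaf.existsUnique_gluing' D V (fun y => homOfLE (hDV y))
    (fun y hy => Opens.mem_iSup.mpr ⟨⟨y, hy⟩, hD _⟩) s (fun i j => by
      apply hinj (D i ⊓ D j)
      have e1 := nat (inf_le_left : D i ⊓ D j ≤ D i) (s i)
      have e2 := nat (inf_le_right : D i ⊓ D j ≤ D j) (s j)
      rw [hs] at e1 e2
      refine e1.trans (Eq.trans ?_ e2.symm)
      rw [← CommRingCat.comp_apply, ← CommRingCat.comp_apply, ← Functor.map_comp, ← Functor.map_comp]
      rfl)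
  refine ⟨r, ?_⟩
  refine X.sheaf.eq_of_locally_eq' (fun y => f ⁻¹ᵁ D y) (f ⁻¹ᵁ V) (fun y => homOfLE (f.preimage_mono (hDV y)))
    (fun x hx => Opens.mem_iSup.mpr ⟨⟨f x, hx⟩, hD _⟩) _ _ fun y => ?_
  change X.presheaf.map (homOfLE (f.preimage_mono (hDV y))).op (f.app V r) =
    X.presheaf.map (homOfLE (f.preimage_mono (hDV y))).op t
  rw [← nat (hDV y)]
  rw [show Y.presheaf.map (homOfLE (hDV y)).op r = s y from hr y, hs]

theorem app_bijective_baseChange {X Y X' Y' : Scheme.{u}} {f : X ⟶ Y} [QuasiCompact f] [QuasiSeparated f]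
    (hf : ∀ V : Y.Opens, IsIso (f.app V)) {g : X' ⟶ X} {f' : X' ⟶ Y'} {p : Y' ⟶ Y} [Flat p]
    (H : IsPullback g f' f p) (V : Y'.Opens) : IsIso (f'.app V) := by
  rw [ConcreteCategory.isIso_iff_bijective]
  refine app_bijective_of_basis f' (fun y W hyW => ?_) V
  obtain ⟨U, hU, hyU, -⟩ := exists_isAffineOpen_mem_and_subset (U := (⊤ : Y.Opens)) (x := p y) trivial
  obtain ⟨D, hD, hyD, hDle⟩ := exists_isAffineOpen_mem_and_subset (U := W ⊓ p ⁻¹ᵁ U) (x := y) ⟨hyW, hyU⟩
  refine ⟨D, hyD, fun z hz => (hDle hz).1, ?_⟩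
  have hDU : D ≤ p ⁻¹ᵁ U := fun z hz => (hDle hz).2
  have hUY : f' ⁻¹ᵁ D = g ⁻¹ᵁ (f ⁻¹ᵁ U) ⊓ f' ⁻¹ᵁ D := by
    refine (inf_eq_right.mpr fun z hz => ?_).symm
    change f (g z) ∈ U
    rw [← Scheme.Hom.comp_apply, H.w]
    exact hDU hz
  haveI : IsIso (f.appLE U (f ⁻¹ᵁ U) le_rfl) := by rw [← Scheme.Hom.app_eq_appLE]; exact hf U
  have hiso := isIso_pushoutSection_of_isQuasiSeparated_of_flat_right H hDU le_rfl hUY hU hD
    (f.isCompact_preimage hU.isCompact) (f.isQuasiSeparated_preimage hU.isQuasiSeparated)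
  haveI := ((isIso_pushoutSection_iff H hDU le_rfl hUY).mp hiso).isIso_inr_of_isIso
  haveI : IsIso (f'.app D) := by
    rw [Scheme.Hom.app_eq_appLE]
    infer_instance
  exact ConcreteCategory.bijective_of_isIso (f'.app D)

end Groth.Agent.VarDim.Fibration
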