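import Groth.Agent.Lib.VarDim.Normal
import Mathlib.AlgebraicGeometry.Noetherian
import Mathlib.AlgebraicGeometry.Morphisms.UniversallyClosed
import Mathlib.RingTheory.Localization.AsSubring

/-!
Universally closed morphisms `f : X ⟶ Y` with `𝒪_Y ≅ f_* 𝒪_X`.

* `surjective`, `isIntegral`;
* `normal_stalk`: if `X` is Noetherian with normal stalks, then so is `Y`.
-/

universe u

namespace Groth.Agent.VarDim.Fibration

open CategoryTheory AlgebraicGeometry TopologicalSpace Opposite

variable {X Y : Scheme.{u}} (f : X ⟶ Y) (hf : ∀ V : Y.Opens, IsIso (f.app V))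

include hf in
theorem app_bijective (V : Y.Opens) : Function.Bijective (f.app V) :=
  haveI := hf V
  ConcreteCategory.bijective_of_isIso (f.app V)

include hf in
theorem surjective [UniversallyClosed f] : Surjective f := by
  refine ⟨fun y => ?_⟩
  by_contra hy
  have hy' : y ∈ (Set.range f)ᶜ := fun ⟨x, hx⟩ => hy ⟨x, hx⟩
  let V : Y.Opens := ⟨(Set.range f)ᶜ, f.isClosedMap.isClosed_range.isOpen_compl⟩
  have hbot : f ⁻¹ᵁ V = ⊥ := le_bot_iff.mp fun x hx => (hx ⟨x, rfl⟩).elim
  haveI : Subsingleton Γ(X, f ⁻¹ᵁ V) := by rw [hbot]; infer_instance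
  have h01 : (1 : Γ(Y, V)) = 0 := (app_bijective f hf V).1 (Subsingleton.elim _ _)
  have := congrArg (Y.presheaf.germ V y hy') h01
  rw [map_one, map_zero] at this
  exact one_ne_zero this

include hf in
theorem isReduced [IsReduced X] : IsReduced Y :=
  ⟨fun V => isReduced_of_injective (f.app V).hom (app_bijective f hf V).1⟩

include hf in
theorem isIntegral [UniversallyClosed f] [IsIntegral X] : IsIntegral Y := by
  haveI := isReduced f hf
  haveI : Nonempty Y := ⟨f (genericPoint X)⟩
  refine (isIntegral_iff_irreducibleSpace_and_isReduced _).mpr ⟨?_, inferInstance⟩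
  refine (irreducibleSpace_def _).mpr (?_ : IsIrreducible (Set.univ : Set Y))
  have hsurj : Function.Surjective f := (surjective f hf).surj
  rw [← hsurj.range_eq, ← Set.image_univ]
  exact (IrreducibleSpace.isIrreducible_univ _).image _ f.continuous.continuousOn

section Normal

variable (hX : ∀ x : X, IsDomain (X.presheaf.stalk x) ∧ IsIntegrallyClosed (X.presheaf.stalk x))

include hX in
/-- Two points with a common specialization have comparable generizations: generizations of a point
with domain stalk have a common generization. -/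
theorem exists_top_generization (x : X) : ∃ g, g ⤳ x ∧ ∀ z, z ⤳ x → g ⤳ z := by
  obtain ⟨U, hU, hxU, -⟩ := exists_isAffineOpen_mem_and_subset (U := (⊤ : X.Opens)) (x := x) trivial
  letI := TopCat.Presheaf.algebra_section_stalk X.presheaf (⟨x, hxU⟩ : U)
  haveI := hU.isLocalization_stalk ⟨x, hxU⟩
  haveI := (hX x).1
  let g : PrimeSpectrum Γ(X, U) :=
    ⟨RingHom.ker (algebraMap Γ(X, U) (X.presheaf.stalk x)), RingHom.ker_isPrime _⟩
  refine ⟨hU.fromSpec g, ?_, fun z hz => ?_⟩
  · have hle : g ≤ hU.primeIdealOf ⟨x, hxU⟩ := fun a ha => by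
      by_contra hna
      have := IsLocalization.map_units (X.presheaf.stalk x) (⟨a, hna⟩ : (hU.primeIdealOf ⟨x, hxU⟩).asIdeal.primeCompl)
      rw [show algebraMap Γ(X, U) (X.presheaf.stalk x) a = 0 from ha] at this
      exact not_isUnit_zero this
    have := hU.fromSpec.continuous.specialization_monotone ((PrimeSpectrum.le_iff_specializes _ _).mp hle)
    rwa [hU.fromSpec_primeIdealOf] at this
  · have hzU : z ∈ U := hz.mem_open U.2 hxU
    have hle : g ≤ hU.primeIdealOf ⟨z, hzU⟩ := fun a ha => by
      obtain ⟨⟨s, hs⟩, hsa⟩ := (IsLocalization.map_eq_zero_iff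
        (hU.primeIdealOf ⟨x, hxU⟩).asIdeal.primeCompl (X.presheaf.stalk x) a).mp ha
      refine ((hU.primeIdealOf ⟨z, hzU⟩).2.mem_or_mem (show s * a ∈ _ by rw [hsa]; exact zero_mem _)).resolve_left ?_
      intro hsz
      refine hs ?_
      have : hU.primeIdealOf ⟨z, hzU⟩ ≤ hU.primeIdealOf ⟨x, hxU⟩ := by
        refine (PrimeSpectrum.le_iff_specializes _ _).mpr (hU.fromSpec.isOpenEmbedding.isInducing.specializes_iff.mp ?_)
        rw [hU.fromSpec_primeIdealOf, hU.fromSpec_primeIdealOf]
        exact hz
      exact this hsz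
    have := hU.fromSpec.continuous.specialization_monotone ((PrimeSpectrum.le_iff_specializes _ _).mp hle)
    rwa [hU.fromSpec_primeIdealOf] at this

include hX in
/-- Irreducible components of a Noetherian scheme with domain stalks are open. -/
theorem exists_component_isClopen [IsLocallyNoetherian X] [CompactSpace X] (x : X) :
    ∃ g, g ⤳ x ∧ IsClopen (closure ({g} : Set X)) := by
  haveI : IsNoetherian X := {}
  obtain ⟨g, hgx, hg⟩ := exists_top_generization hX x
  refine ⟨g, hgx, isClosed_closure, ?_⟩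
  have hfin : (irreducibleComponents X).Finite := TopologicalSpace.NoetherianSpace.finite_irreducibleComponents
  have heq : closure ({g} : Set X) = (⋃ Z ∈ {Z ∈ irreducibleComponents X | g ∉ Z}, Z)ᶜ := by
    ext z
    constructor
    · intro hz
      simp only [Set.mem_compl_iff, Set.mem_iUnion, not_exists]
      rintro Z ⟨hZ, hgZ⟩ hzZ
      obtain ⟨g', hg'z, hg'⟩ := exists_top_generization hX z
      have hgz : g ⤳ z := specializes_iff_mem_closure.mpr hz
      have hZc := isClosed_of_mem_irreducibleComponents Z hZ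
      have hη : hZ.1.genericPoint ⤳ z := by
        rw [specializes_iff_mem_closure, hZ.1.closure_genericPoint hZc]; exact hzZ
      have h1 : g' ⤳ g := hg' g hgz
      have h2 : g ⤳ g' := hg g' ((h1.trans hgx))
      have h3 : g' ⤳ hZ.1.genericPoint := hg' _ hη
      have hmax := hZ.2 (isIrreducible_singleton (x := g')).closure (by
        rw [← hZ.1.closure_genericPoint hZc]
        exact closure_minimal (Set.singleton_subset_iff.mpr (specializes_iff_mem_closure.mp h3)) isClosed_closure)
      exact hgZ (hmax (specializes_iff_mem_closure.mp h1))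
    · intro hz
      have hC := irreducibleComponent_mem_irreducibleComponents z
      by_cases hgC : g ∈ irreducibleComponent z
      · have hge : (isIrreducible_irreducibleComponent (x := z)).genericPoint ⤳ g := by
          rw [specializes_iff_mem_closure,
            (isIrreducible_irreducibleComponent (x := z)).closure_genericPoint isClosed_irreducibleComponent]
          exact hgC
        have h2 : g ⤳ (isIrreducible_irreducibleComponent (x := z)).genericPoint := hg _ (Specializes.trans hge hgx)
        refine specializes_iff_mem_closure.mp (h2.trans ?_)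
        rw [specializes_iff_mem_closure,
          (isIrreducible_irreducibleComponent (x := z)).closure_genericPoint isClosed_irreducibleComponent]
        exact mem_irreducibleComponent
      · exact (hz (Set.mem_biUnion ⟨hC, hgC⟩ mem_irreducibleComponent)).elim
  rw [heq]
  exact ((hfin.subset fun Z hZ => hZ.1).isClosed_biUnion
    fun Z hZ => isClosed_of_mem_irreducibleComponents Z hZ.1).isOpen_compl

include hf in
/-- The fibre over a point lies in any clopen subset it meets. -/
theorem fibre_subset_of_isClopen {C : Set X} (hC : IsClopen C) {x x' : X} (hx : x ∈ C)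
    (h : f x = f x') : x' ∈ C := by
  classical
  by_contra hx'
  let U : Bool → X.Opens := fun b => cond b ⟨C, hC.2⟩ ⟨Cᶜ, hC.1.isOpen_compl⟩
  let s : ∀ b, Γ(X, U b) := fun b => cond b 1 0
  obtain ⟨e, he, -⟩ := X.sheaf.existsUnique_gluing' U ⊤ (fun b => homOfLE le_top)
    (fun z _ => Opens.mem_iSup.mpr (by
      by_cases hz : z ∈ C
      · exact ⟨true, hz⟩
      · exact ⟨false, hz⟩)) s (fun i j => by
      cases i <;> cases j
      · rfl
      · haveI : Subsingleton Γ(X, U false ⊓ U true) := by
          rw [show U false ⊓ U true = ⊥ from le_bot_iff.mp fun z hz => hz.1 hz.2]; infer_instance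
        exact Subsingleton.elim (α := Γ(X, U false ⊓ U true)) _ _
      · haveI : Subsingleton Γ(X, U true ⊓ U false) := by
          rw [show U true ⊓ U false = ⊥ from le_bot_iff.mp fun z hz => hz.2 hz.1]; infer_instance
        exact Subsingleton.elim (α := Γ(X, U true ⊓ U false)) _ _
      · rfl)
  obtain ⟨e', he'⟩ := (app_bijective f hf ⊤).2 e
  have hgerm : ∀ (b : Bool) (z : X) (hz : z ∈ U b),
      f.stalkMap z (Y.presheaf.germ ⊤ (f z) trivial e') = X.presheaf.germ (U b) z hz (s b) := by
    intro b z hz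
    rw [Scheme.Hom.germ_stalkMap_apply, he']
    have h1 := TopCat.Presheaf.germ_res_apply X.presheaf (homOfLE (le_top : U b ≤ ⊤)) z hz e
    rw [show X.presheaf.map (homOfLE (le_top : U b ≤ ⊤)).op e = s b from he b] at h1
    exact h1.symm
  have h1 := hgerm true x hx
  have h0 := hgerm false x' hx'
  have hu : IsUnit (Y.presheaf.germ ⊤ (f x) trivial e') :=
    (isUnit_map_iff (f.stalkMap x).hom _).mp (by rw [h1, show s true = 1 from rfl, map_one]; exact isUnit_one)
  have key : ∀ (y y' : Y), y = y' → IsUnit (Y.presheaf.germ ⊤ y trivial e') →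
      IsUnit (Y.presheaf.germ ⊤ y' trivial e') := by rintro _ _ rfl h; exact h
  have := (key _ _ h hu).map (f.stalkMap x').hom
  rw [h0, show s false = 0 from rfl, map_zero] at this
  exact not_isUnit_zero this

include hf hX in
/-- Normality descends along a universally closed `f` with `𝒪_Y ≅ f_* 𝒪_X`. -/
theorem normal_stalk [UniversallyClosed f] [IsLocallyNoetherian X] [CompactSpace X] (y : Y) :
    IsDomain (Y.presheaf.stalk y) ∧ IsIntegrallyClosed (Y.presheaf.stalk y) := by
  obtain ⟨x, rfl⟩ := (surjective f hf).surj y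
  obtain ⟨g, hgx, hC⟩ := exists_component_isClopen hX x
  let V₀ : Y.Opens := ⟨(f '' (closure {g})ᶜ)ᶜ, (f.isClosedMap _ hC.2.isClosed_compl).isOpen_compl⟩
  have hxV₀ : f x ∈ V₀ := by
    rintro ⟨x', hx', he⟩
    exact hx' (fibre_subset_of_isClopen f hf hC (specializes_iff_mem_closure.mp hgx) he.symm)
  obtain ⟨V, hV, hyV, hVV₀⟩ := exists_isAffineOpen_mem_and_subset (U := V₀) (x := f x) hxV₀
  let W : X.Opens := f ⁻¹ᵁ V
  have hxW : x ∈ W := hyV
  have hWC : (W : Set X) ⊆ closure {g} := fun z hz => by
    by_contra hzc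
    exact hVV₀ hz ⟨z, hzc, rfl⟩
  haveI : Nonempty (W : Scheme.{u}) := ⟨⟨x, hxW⟩⟩
  haveI : ∀ z : (W : Scheme.{u}), _root_.IsReduced ((W : Scheme.{u}).presheaf.stalk z) := fun z => by
    haveI := (hX z.1).1
    exact isReduced_of_injective (W.stalkIso z).hom.hom (ConcreteCategory.bijective_of_isIso (W.stalkIso z).hom).1
  haveI : IsReduced (W : Scheme.{u}) := isReduced_of_isReduced_stalk _
  haveI : IrreducibleSpace (W : Scheme.{u}) := by
    refine (irreducibleSpace_def _).mpr (?_ : IsIrreducible (Set.univ : Set (W : Scheme.{u})))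
    refine ⟨Set.univ_nonempty, fun u v hu hv ⟨a, _, ha⟩ ⟨b, _, hb⟩ => ?_⟩
    obtain ⟨u', hu', rfl⟩ := isOpen_induced_iff.mp hu
    obtain ⟨v', hv', rfl⟩ := isOpen_induced_iff.mp hv
    obtain ⟨z, -, hzu, hzv⟩ := (isIrreducible_singleton (x := g)).closure.isPreirreducible ((W : Set X) ∩ u') ((W : Set X) ∩ v')
      (W.2.inter hu') (W.2.inter hv') ⟨a.1, hWC a.2, a.2, ha⟩ ⟨b.1, hWC b.2, b.2, hb⟩
    exact ⟨⟨z, hzu.1⟩, trivial, hzu.2, hzv.2⟩
  haveI : IsIntegral (W : Scheme.{u}) := (isIntegral_iff_irreducibleSpace_and_isReduced _).mpr ⟨inferInstance, inferInstance⟩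
  have hWn : ∀ z : (W : Scheme.{u}), IsIntegrallyClosed ((W : Scheme.{u}).presheaf.stalk z) := fun z => by
    haveI := (hX z.1).2
    exact IsIntegrallyClosed.of_equiv (W.stalkIso z).symm.commRingCatIsoToRingEquiv
  haveI : Nonempty (⊤ : (W : Scheme.{u}).Opens) := ⟨⟨⟨x, hxW⟩, trivial⟩⟩
  haveI hic : IsIntegrallyClosed Γ((W : Scheme.{u}), ⊤) := isIntegrallyClosed_sections hWn ⊤
  haveI : IsDomain Γ((W : Scheme.{u}), ⊤) := inferInstance
  let e : Γ(Y, V) ≃+* Γ((W : Scheme.{u}), ⊤) :=
    (RingEquiv.ofBijective (f.app V).hom (app_bijective f hf V)).trans W.topIso.symm.commRingCatIsoToRingEquiv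
  haveI : IsDomain Γ(Y, V) := e.toMulEquiv.isDomain _
  haveI : IsIntegrallyClosed Γ(Y, V) := IsIntegrallyClosed.of_equiv e.symm
  letI := TopCat.Presheaf.algebra_section_stalk Y.presheaf (⟨f x, hyV⟩ : V)
  haveI := hV.isLocalization_stalk ⟨f x, hyV⟩
  exact ⟨IsLocalization.isDomain_of_atPrime _ (hV.primeIdealOf ⟨f x, hyV⟩).asIdeal,
    isIntegrallyClosed_of_isLocalization _ (hV.primeIdealOf ⟨f x, hyV⟩).asIdeal.primeCompl
      (Ideal.primeCompl_le_nonZeroDivisors _)⟩

end Normal

end Groth.Agent.VarDim.Fibration
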