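import Groth.Agent.Lib.VarDim.Irred
import Mathlib.Algebra.MvPolynomial.Equiv
import Mathlib.Algebra.Polynomial.Roots
import Mathlib.Data.Set.Countable

/-!
Countably many proper closed subsets do not cover the closed points, over an uncountable field.
-/

universe u

namespace Groth.Agent.VarDim

open CategoryTheory AlgebraicGeometry Order Topology

theorem exists_eval_ne_zero_of_countable {k : Type u} [Field k] [Uncountable k] :
    ∀ (s : ℕ) (g : ℕ → MvPolynomial (Fin s) k), (∀ n, g n ≠ 0) →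
      ∃ a : Fin s → k, ∀ n, MvPolynomial.eval a (g n) ≠ 0
  | 0, g, hg => ⟨Fin.elim0, fun n h => hg n (by
      have e := MvPolynomial.eq_C_of_isEmpty (g n)
      rw [e, MvPolynomial.eval_C] at h
      rw [e, h, map_zero])⟩
  | s + 1, g, hg => by
    obtain ⟨a, ha⟩ := exists_eval_ne_zero_of_countable s
      (fun n => (MvPolynomial.finSuccEquiv k s (g n)).leadingCoeff) fun n => by simpa using hg n
    have hne : ∀ n, (MvPolynomial.finSuccEquiv k s (g n)).map (MvPolynomial.eval a) ≠ 0 := fun n h0 => by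
      have := congrArg (fun p => Polynomial.coeff p (MvPolynomial.finSuccEquiv k s (g n)).natDegree) h0
      simp only [Polynomial.coeff_map, Polynomial.coeff_zero] at this
      exact ha n this
    have hcount : (⋃ n, {y : k | ((MvPolynomial.finSuccEquiv k s (g n)).map (MvPolynomial.eval a)).IsRoot y}).Countable :=
      Set.countable_iUnion fun n => (Polynomial.finite_setOf_isRoot (hne n)).countable
    obtain ⟨y, hy⟩ : ∃ y, y ∉ ⋃ n, {y : k | ((MvPolynomial.finSuccEquiv k s (g n)).map (MvPolynomial.eval a)).IsRoot y} := by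
      by_contra! hall
      exact not_countable (α := k) (Set.countable_univ_iff.mp (hcount.mono fun z _ => hall z))
    refine ⟨Fin.cons y a, fun n h => hy (Set.mem_iUnion.mpr ⟨n, ?_⟩)⟩
    rw [MvPolynomial.eval_eq_eval_mv_eval'] at h
    exact h

theorem exists_isMaximal_avoiding (k : Type u) [Field k] [Uncountable k] (A : Type u) [CommRing A]
    [IsDomain A] [Algebra k A] [Algebra.FiniteType k A] (f : ℕ → A) (hf : ∀ n, f n ≠ 0) :
    ∃ m : Ideal A, m.IsMaximal ∧ ∀ n, f n ∉ m := by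
  obtain ⟨s, φ, hφ, hφi, -, -⟩ := exists_noether_dim k A
  letI : Algebra (MvPolynomial (Fin s) k) A := φ.toRingHom.toAlgebra
  haveI : Algebra.IsIntegral (MvPolynomial (Fin s) k) A := ⟨hφi⟩
  have hg : ∀ n, ∃ g : MvPolynomial (Fin s) k, g ≠ 0 ∧ φ g ∈ Ideal.span {f n} := fun n => by
    have h := Ideal.comap_ne_bot_of_integral_mem (R := MvPolynomial (Fin s) k) (hf n)
      (Ideal.mem_span_singleton_self (f n)) (Algebra.IsIntegral.isIntegral (f n))
    obtain ⟨g, hg, hg0⟩ := Submodule.exists_mem_ne_zero_of_ne_bot h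
    exact ⟨g, hg0, hg⟩
  choose g hg0 hgf using hg
  obtain ⟨a, ha⟩ := exists_eval_ne_zero_of_countable s g hg0
  let n₀ : Ideal (MvPolynomial (Fin s) k) := RingHom.ker (MvPolynomial.eval a)
  haveI : n₀.IsMaximal := RingHom.ker_isMaximal_of_surjective _ fun c => ⟨MvPolynomial.C c, MvPolynomial.eval_C c⟩
  obtain ⟨m, hm, hmn⟩ := Ideal.exists_ideal_over_maximal_of_isIntegral (S := A) n₀
    (by simp [(RingHom.injective_iff_ker_eq_bot _).mp (show Function.Injective (algebraMap (MvPolynomial (Fin s) k) A) from hφ)])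
  refine ⟨m, hm, fun n hn => ha n ?_⟩
  have h : φ (g n) ∈ m := (Ideal.span_le.mpr (Set.singleton_subset_iff.mpr hn)) (hgf n)
  have : g n ∈ m.comap (algebraMap (MvPolynomial (Fin s) k) A) := h
  rw [hmn] at this
  exact this

/-- Over an uncountable field, the closure of a point contains a closed point avoiding countably
many closed sets which do not contain the point. -/
theorem exists_closedPoint_avoiding {k : Type u} [Field k] [Uncountable k] {X : Scheme.{u}}
    (p : X ⟶ Spec (CommRingCat.of k)) [LocallyOfFiniteType p] {U : X.Opens} {g : X} (hgU : g ∈ U)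
    (Z : ℕ → Set X) (hZ : ∀ n, IsClosed (Z n)) (hg : ∀ n, g ∉ Z n) :
    ∃ x, g ⤳ x ∧ x ∈ U ∧ IsClosed ({x} : Set X) ∧ ∀ n, x ∉ Z n := by
  obtain ⟨W, hW, hgW, hWU⟩ := exists_isAffineOpen_mem_and_subset (U := U) (x := g) hgU
  letI : Algebra k Γ(X, W) := (baseToSections p W).toAlgebra
  haveI : Algebra.FiniteType k Γ(X, W) := finiteType_baseToSections p hW
  let P₀ := hW.primeIdealOf ⟨g, hgW⟩
  have hex : ∀ n, ∃ f : Γ(X, W), f ∉ P₀.asIdeal ∧ ∀ P : PrimeSpectrum Γ(X, W), hW.fromSpec P ∈ Z n → f ∈ P.asIdeal := by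
    intro n
    obtain ⟨I, hI⟩ := (PrimeSpectrum.isClosed_iff_zeroLocus_ideal _).mp ((hZ n).preimage hW.fromSpec.continuous)
    have hnot : ¬ P₀ ∈ PrimeSpectrum.zeroLocus (I : Set Γ(X, W)) := by
      intro h
      have h' : P₀ ∈ hW.fromSpec ⁻¹' Z n := hI ▸ h
      have e : hW.fromSpec P₀ = g := hW.fromSpec_primeIdealOf ⟨g, hgW⟩
      exact hg n (show g ∈ Z n by rw [← e]; exact h')
    obtain ⟨f, hfI, hf⟩ := SetLike.not_le_iff_exists.mp (show ¬ I ≤ P₀.asIdeal from hnot)
    refine ⟨f, hf, fun P hP => ?_⟩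
    have : P ∈ PrimeSpectrum.zeroLocus (I : Set Γ(X, W)) := hI ▸ hP
    exact this hfI
  choose f hf hfZ using hex
  obtain ⟨m, hm, hmf⟩ := exists_isMaximal_avoiding k (Γ(X, W) ⧸ P₀.asIdeal) (fun n => Ideal.Quotient.mk _ (f n))
    fun n h => hf n (Ideal.Quotient.eq_zero_iff_mem.mp h)
  let M : PrimeSpectrum Γ(X, W) := PrimeSpectrum.comap (Ideal.Quotient.mk P₀.asIdeal) ⟨m, hm.isPrime⟩
  have hMmax : M.asIdeal.IsMaximal := Ideal.comap_isMaximal_of_surjective _ Ideal.Quotient.mk_surjective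
  refine ⟨hW.fromSpec M, ?_, hWU (fromSpec_mem hW M), ?_, fun n h => hmf n (hfZ n M h)⟩
  · have := (fromSpec_le_iff hW P₀ M).mpr fun a ha => by
      change Ideal.Quotient.mk P₀.asIdeal a ∈ m
      rw [Ideal.Quotient.eq_zero_iff_mem.mpr ha]
      exact zero_mem _
    have h2 : hW.fromSpec P₀ = g := hW.fromSpec_primeIdealOf ⟨g, hgW⟩
    rw [h2] at this
    exact this
  · rw [← sdim_eq_zero_iff_isClosed p]
    have h := sdim_eq_coheight p hW (hW.fromSpec M) (fromSpec_mem hW M)
    rw [primeIdealOf_fromSpec] at h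
    have h0 : Order.coheight M = 0 := Order.coheight_eq_zero.mpr fun Q hQ =>
      le_of_eq (PrimeSpectrum.ext (hMmax.eq_of_le Q.2.ne_top hQ)).symm
    rw [h0] at h
    exact_mod_cast h.symm

end Groth.Agent.VarDim
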